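import Mathlib

/-!
# An abelian 2-group with a transitive group of automorphisms on its involutions is homocyclic
-/

set_option autoImplicit false

namespace CfsgLib.InvolConj

universe u

/-- A commutative 2-group whose involutions are permuted transitively by automorphisms is a power
of one cyclic group. -/
theorem exists_homocyclic_equiv {A : Type u} [CommGroup A] [Finite A] [Nontrivial A] (hA : IsPGroup 2 A)
    (htrans : ∀ x y : A, x ≠ 1 → x ^ 2 = 1 → y ≠ 1 → y ^ 2 = 1 → ∃ φ : MulAut A, φ x = y) :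
    ∃ m r : ℕ, Nonempty (A ≃* (Fin r → Multiplicative (ZMod (2 ^ m)))) := by
  classical
  have := Fact.mk Nat.prime_two
  obtain ⟨ι, hι, n, hn1, ⟨Φ⟩⟩ := CommGroup.equiv_prod_multiplicative_zmod_of_finite A
  let single (i : ι) (a : ZMod (n i)) : A :=
    Φ.symm (Pi.mulSingle (M := fun i => Multiplicative (ZMod (n i))) i (Multiplicative.ofAdd a))
  have hord : ∀ i, orderOf (single i 1) = n i := by
    intro i
    show orderOf (Φ.symm _) = n i
    rw [MulEquiv.orderOf_eq]
    refine (orderOf_injective (MonoidHom.mulSingle (fun i => Multiplicative (ZMod (n i))) i)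
      (Pi.mulSingle_injective (M := fun i => Multiplicative (ZMod (n i))) i) _).trans ?_
    rw [orderOf_ofAdd_eq_addOrderOf, ZMod.addOrderOf_one]
  have hk : ∀ i, ∃ k, n i = 2 ^ (k + 1) := by
    intro i
    obtain ⟨k, hk⟩ := IsPGroup.iff_orderOf.1 hA (single i 1)
    rw [hord] at hk
    have h1 := hn1 i
    rcases k with _ | k
    · rw [pow_zero] at hk; omega
    · exact ⟨k, hk⟩
  choose k hk using hk
  have hexp : ∀ (e : ℕ), (∀ i, k i ≤ e) → ∀ x : A, x ^ 2 ^ (e + 1) = 1 := by
    intro e he x
    refine Φ.injective ?_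
    rw [map_one, map_pow]
    refine funext fun i => ?_
    rw [Pi.pow_apply, Pi.one_apply, ← orderOf_dvd_iff_pow_eq_one]
    refine (orderOf_dvd_natCard _).trans ?_
    rw [Nat.card_congr Multiplicative.toAdd, Nat.card_zmod, hk i]
    exact pow_dvd_pow 2 (Nat.succ_le_succ (he i))
  have hne : Nonempty ι := by
    by_contra hempty
    rw [not_nonempty_iff] at hempty
    obtain ⟨x, hx⟩ := exists_ne (1 : A)
    exact hx (Φ.injective (Subsingleton.elim _ _))
  obtain ⟨i0, hi0⟩ := Finite.exists_max k
  set e := k i0 with he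
  have key : ∀ i, k i = e := by
    intro i
    by_contra hne'
    have hlt : k i < e := lt_of_le_of_ne (hi0 i) hne'
    -- two involutions
    set x := (single i0 1) ^ 2 ^ e with hx
    set y := (single i 1) ^ 2 ^ k i with hy
    have hx1 : x ≠ 1 := fun h => by
      have := Nat.le_of_dvd (pow_pos two_pos _) (hord i0 ▸ orderOf_dvd_of_pow_eq_one h)
      rw [hk i0, pow_succ, ← he] at this
      have : 0 < 2 ^ e := pow_pos two_pos _
      omega
    have hy1 : y ≠ 1 := fun h => by
      have := Nat.le_of_dvd (pow_pos two_pos _) (hord i ▸ orderOf_dvd_of_pow_eq_one h)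
      rw [hk i, pow_succ] at this
      have : 0 < 2 ^ k i := pow_pos two_pos _
      omega
    have hx2 : x ^ 2 = 1 := by
      rw [hx, ← pow_mul, ← pow_succ]; exact hexp e hi0 _
    have hy2 : y ^ 2 = 1 := by
      rw [hy, ← pow_mul, ← pow_succ]
      exact orderOf_dvd_iff_pow_eq_one.1 (by rw [hord i, hk i])
    obtain ⟨φ, hφ⟩ := htrans x y hx1 hx2 hy1 hy2
    rw [hx, map_pow] at hφ
    -- the `i`-th coordinate of a `2 ^ e`-th power vanishes
    have h1 : Φ (φ (single i0 1) ^ 2 ^ e) i = 1 := by
      rw [map_pow, Pi.pow_apply]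
      have : NeZero (n i) := ⟨by have := hn1 i; omega⟩
      refine orderOf_dvd_iff_pow_eq_one.1 ((orderOf_dvd_natCard _).trans ?_)
      rw [Nat.card_congr Multiplicative.toAdd, Nat.card_zmod, hk i]
      exact pow_dvd_pow 2 hlt
    rw [hφ, hy, map_pow, Pi.pow_apply] at h1
    have h2 : Φ (single i 1) i = Multiplicative.ofAdd (1 : ZMod (n i)) := by
      show Φ (Φ.symm _) i = _
      rw [MulEquiv.apply_symm_apply, Pi.mulSingle_eq_same]
    rw [h2] at h1
    have h3 := orderOf_dvd_of_pow_eq_one h1
    rw [orderOf_ofAdd_eq_addOrderOf, ZMod.addOrderOf_one, hk i] at h3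
    have := Nat.le_of_dvd (pow_pos two_pos _) h3
    rw [pow_succ] at this
    have : 0 < 2 ^ k i := pow_pos two_pos _
    omega
  refine ⟨e + 1, Fintype.card ι, ⟨Φ.trans ((MulEquiv.piCongrRight fun i => ?_).trans
    (MulEquiv.arrowCongr (Fintype.equivFin ι) (MulEquiv.refl (Multiplicative (ZMod (2 ^ (e + 1)))))))⟩⟩
  exact AddEquiv.toMultiplicative (ZMod.ringEquivCongr (by rw [hk i, key i])).toAddEquiv

end CfsgLib.InvolConj
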