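import Cfsg.Agent.Lib.InvolConj.Module

/-!
# The action on a critical quotient and its quadratic map
-/

set_option autoImplicit false

namespace CfsgLib.InvolConj

open Subgroup
open scoped commutatorElement

universe u

/-- A normal subgroup `R` with a normal central subgroup `V` of exponent two containing the squares of
`R`, and containing all its elements of square one. -/
structure SqData (G : Type u) [Group G] where
  /-- The subgroup. -/
  R : Subgroup G
  /-- The central subgroup. -/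
  V : Subgroup G
  normR : R.Normal
  normV : V.Normal
  le : V ≤ R
  central : V ≤ centralizer (R : Set G)
  expV : ∀ v ∈ V, v * v = 1
  commR : ⁅R, R⁆ ≤ V
  sqR : ∀ x ∈ R, x * x ∈ V
  aniso : ∀ x ∈ R, x * x = 1 → x ∈ V

namespace SqData

variable {G : Type u} [Group G] (D : SqData G)

instance : (D.V.subgroupOf D.R).Normal := D.normV.subgroupOf D.R

/-- The quotient. -/
def W : Type u := ↥D.R ⧸ D.V.subgroupOf D.R

instance : CommGroup D.W :=
  { (inferInstance : Group (↥D.R ⧸ D.V.subgroupOf D.R)) with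
    mul_comm := by
      rintro ⟨a⟩ ⟨b⟩
      refine (QuotientGroup.eq).2 (mem_subgroupOf.2 ?_)
      show ((a : G) * b)⁻¹ * (b * a) ∈ D.V
      rw [show ((a : G) * b)⁻¹ * (b * a) = ⁅(b : G)⁻¹, (a : G)⁻¹⁆ by rw [commutatorElement_def]; group]
      exact D.commR (commutator_mem_commutator (inv_mem b.2) (inv_mem a.2)) }

instance : CommGroup D.V :=
  { (inferInstance : Group D.V) with
    mul_comm := fun a b => Subtype.ext (mem_centralizer_iff.1 (D.central a.2) b (D.le b.2)).symm }

instance [Finite G] : Finite D.W := Quotient.finite _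

/-- The projection. -/
def proj : D.R →* D.W := QuotientGroup.mk' _

theorem proj_surjective : Function.Surjective D.proj := QuotientGroup.mk'_surjective _

theorem proj_eq_iff {x y : D.R} : D.proj x = D.proj y ↔ (x : G)⁻¹ * y ∈ D.V :=
  QuotientGroup.eq.trans mem_subgroupOf

/-- The squaring map. -/
def Q : Additive D.W → Additive D.V := fun w => Additive.ofMul <|
  Quotient.liftOn' w.toMul (fun x : D.R => (⟨x * x, D.sqR x x.2⟩ : D.V)) fun a b hab => by
    have hab' : (a : G)⁻¹ * b ∈ D.V := mem_subgroupOf.1 (QuotientGroup.leftRel_apply.1 hab)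
    set v := (a : G)⁻¹ * b with hv
    have hb : (b : G) = a * v := by rw [hv, mul_inv_cancel_left]
    have hva : v * a = a * v := (mem_centralizer_iff.1 (D.central hab') a a.2).symm
    refine Subtype.ext ?_
    show (a : G) * a = b * b
    rw [hb, mul_assoc, ← mul_assoc v, hva, mul_assoc, D.expV v hab', mul_one]

theorem Q_mk (x : D.R) : D.Q (Additive.ofMul (D.proj x)) = Additive.ofMul ⟨x * x, D.sqR x x.2⟩ := rfl

theorem polar_mk (x y : D.R) :
    polar D.Q (Additive.ofMul (D.proj x)) (Additive.ofMul (D.proj y))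
      = Additive.ofMul ⟨⁅(x : G), (y : G)⁆, D.commR (commutator_mem_commutator x.2 y.2)⟩ := by
  rw [polar, ← ofMul_mul, ← map_mul, Q_mk, Q_mk, Q_mk, ← ofMul_mul, ← ofMul_mul]
  refine congrArg _ (Subtype.ext ?_)
  show (x : G) * y * (x * y) * (x * x) * (y * y) = ⁅(x : G), (y : G)⁆
  have hc : ⁅(y : G), (x : G)⁆ ∈ D.V := D.commR (commutator_mem_commutator y.2 x.2)
  have hy : ∀ z ∈ D.R, ∀ v ∈ D.V, z * v = v * z := fun z hz v hv =>
    mem_centralizer_iff.1 (D.central hv) z hz
  have e1 : (x : G) * y * (x * y) = ⁅(y : G), (x : G)⁆ * (x * x * (y * y)) := by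
    calc (x : G) * y * (x * y) = x * (⁅(y : G), (x : G)⁆ * (x * y)) * y := by rw [commutatorElement_def]; group
      _ = x * ⁅(y : G), (x : G)⁆ * (x * (y * y)) := by group
      _ = ⁅(y : G), (x : G)⁆ * (x * x * (y * y)) := by rw [hy _ x.2 _ hc]; group
  have hinv : ⁅(x : G), (y : G)⁆ = ⁅(y : G), (x : G)⁆ := by
    rw [← commutatorElement_inv, inv_eq_of_mul_eq_one_right (D.expV _ hc)]
  rw [e1, hinv]
  set a := (x : G) * x
  set b := (y : G) * y
  have ha : a ∈ D.V := D.sqR x x.2
  have hb : b ∈ D.V := D.sqR y y.2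
  calc ⁅(y : G), (x : G)⁆ * (a * b) * a * b = ⁅(y : G), (x : G)⁆ * (a * (b * a) * b) := by group
    _ = ⁅(y : G), (x : G)⁆ * ((a * a) * (b * b)) := by rw [hy b (D.le hb) a ha]; group
    _ = ⁅(y : G), (x : G)⁆ := by rw [D.expV a ha, D.expV b hb, one_mul, mul_one]

theorem quad : Quad D.Q where
  twoW := fun w => by
    obtain ⟨x, hx⟩ := D.proj_surjective w.toMul
    rw [show w = Additive.ofMul (D.proj x) from congrArg Additive.ofMul hx.symm, ← ofMul_mul, ← map_mul,
      ← ofMul_one, ← map_one D.proj]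
    refine congrArg _ ((D.proj_eq_iff).2 ?_)
    simpa using inv_mem (D.sqR x x.2)
  twoV := fun v => congrArg Additive.ofMul (Subtype.ext (D.expV _ v.toMul.2))
  polar_add := fun a b c => by
    obtain ⟨x, hx⟩ := D.proj_surjective a.toMul
    obtain ⟨y, hy⟩ := D.proj_surjective b.toMul
    obtain ⟨z, hz⟩ := D.proj_surjective c.toMul
    rw [show a = Additive.ofMul (D.proj x) from congrArg Additive.ofMul hx.symm,
      show b = Additive.ofMul (D.proj y) from congrArg Additive.ofMul hy.symm,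
      show c = Additive.ofMul (D.proj z) from congrArg Additive.ofMul hz.symm, ← ofMul_mul, ← map_mul,
      polar_mk, polar_mk, polar_mk, ← ofMul_mul]
    refine congrArg _ (Subtype.ext ?_)
    show ⁅(x : G), (y : G) * z⁆ = ⁅(x : G), (y : G)⁆ * ⁅(x : G), (z : G)⁆
    have hc : ⁅(x : G), (z : G)⁆ ∈ D.V := D.commR (commutator_mem_commutator x.2 z.2)
    have e : ⁅(x : G), (y : G) * z⁆ = ⁅(x : G), (y : G)⁆ * ((y : G) * ⁅(x : G), (z : G)⁆ * (y : G)⁻¹) := by
      rw [commutatorElement_def, commutatorElement_def, commutatorElement_def]; group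
    rw [e, mem_centralizer_iff.1 (D.central hc) y y.2, mul_inv_cancel_right]
  aniso := fun w hw => by
    obtain ⟨x, hx⟩ := D.proj_surjective w.toMul
    rw [show w = Additive.ofMul (D.proj x) from congrArg Additive.ofMul hx.symm] at hw ⊢
    rw [← ofMul_one, ← map_one D.proj]
    refine congrArg _ ((D.proj_eq_iff).2 ?_)
    simpa using inv_mem (D.aniso x x.2 (congrArg Subtype.val (Additive.ofMul.injective hw)))

/-- Conjugation on the quotient. -/
def conjW (g : G) : D.W →* D.W :=
  haveI := D.normR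
  QuotientGroup.map _ _ (MulAut.conjNormal g : MulAut D.R).toMonoidHom fun x hx =>
    (show g * (x : G) * g⁻¹ ∈ D.V from D.normV.conj_mem _ hx g)

theorem conjW_mk (g : G) (x : D.R) :
    D.conjW g (D.proj x) = D.proj ⟨g * x * g⁻¹, D.normR.conj_mem x x.2 g⟩ := rfl

theorem conjW_mul (g h : G) : D.conjW (g * h) = (D.conjW g).comp (D.conjW h) := by
  refine MonoidHom.ext fun w => ?_
  obtain ⟨x, rfl⟩ := D.proj_surjective w
  rw [MonoidHom.comp_apply, conjW_mk, conjW_mk, conjW_mk]
  exact congrArg D.proj (Subtype.ext (by group))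

theorem conjW_one : D.conjW 1 = MonoidHom.id _ := by
  refine MonoidHom.ext fun w => ?_
  obtain ⟨x, rfl⟩ := D.proj_surjective w
  rw [MonoidHom.id_apply, conjW_mk]
  exact congrArg D.proj (Subtype.ext (by group))

/-- The automorphism of the quotient given by `g`. -/
def autW (g : G) : Auto (Additive D.W) where
  val := MonoidHom.toAdditive (D.conjW g)
  inv := MonoidHom.toAdditive (D.conjW g⁻¹)
  val_inv := AddMonoidHom.ext fun w => by
    show Additive.ofMul ((D.conjW g).comp (D.conjW g⁻¹) w.toMul) = w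
    rw [← conjW_mul, mul_inv_cancel, conjW_one]; rfl
  inv_val := AddMonoidHom.ext fun w => by
    show Additive.ofMul ((D.conjW g⁻¹).comp (D.conjW g) w.toMul) = w
    rw [← conjW_mul, inv_mul_cancel, conjW_one]; rfl

/-- The action of `G`. -/
def act : G →* Auto (Additive D.W) where
  toFun := D.autW
  map_one' := Units.ext (AddMonoidHom.ext fun w => by
    show Additive.ofMul (D.conjW 1 w.toMul) = w
    rw [conjW_one]; rfl)
  map_mul' g h := Units.ext (AddMonoidHom.ext fun w => by
    show Additive.ofMul (D.conjW (g * h) w.toMul) = Additive.ofMul (D.conjW g (D.conjW h w.toMul))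
    rw [conjW_mul]; rfl)

theorem act_mk (g : G) (x : D.R) :
    endo (D.act g) (Additive.ofMul (D.proj x))
      = Additive.ofMul (D.proj ⟨g * x * g⁻¹, D.normR.conj_mem x x.2 g⟩) := rfl

theorem act_eq_one {g : G} (h : ∀ x ∈ D.R, g * x * g⁻¹ * x⁻¹ ∈ D.V) : D.act g = 1 := by
  refine Units.ext (AddMonoidHom.ext fun w => ?_)
  obtain ⟨x, hx⟩ := D.proj_surjective w.toMul
  rw [show w = Additive.ofMul (D.proj x) from congrArg Additive.ofMul hx.symm]
  show endo (D.act g) (Additive.ofMul (D.proj x)) = _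
  rw [act_mk]
  refine congrArg _ ((D.proj_eq_iff).2 ?_)
  show (g * (x : G) * g⁻¹)⁻¹ * x ∈ D.V
  have h1 := D.normV.conj_mem' _ (inv_mem (h x x.2)) (x : G)
  rwa [show (x : G)⁻¹ * (g * x * g⁻¹ * (x : G)⁻¹)⁻¹ * x = (g * (x : G) * g⁻¹)⁻¹ * x by group] at h1

theorem trivial_of_act {g : G} (h : ∀ w, endo (D.act g) w = w) :
    ∀ x ∈ D.R, g * x * g⁻¹ * x⁻¹ ∈ D.V := by
  intro x hx
  have h1 := (D.proj_eq_iff).1 (Additive.ofMul.injective (h (Additive.ofMul (D.proj ⟨x, hx⟩))))
  change (g * x * g⁻¹)⁻¹ * x ∈ D.V at h1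
  have h2 := D.normV.conj_mem _ (inv_mem h1) x
  rwa [show x * ((g * x * g⁻¹)⁻¹ * x)⁻¹ * x⁻¹ = g * x * g⁻¹ * x⁻¹ by group] at h2

theorem Q_act {g : G} (hg : ∀ v ∈ D.V, g * v * g⁻¹ = v) (w : Additive D.W) :
    D.Q (endo (D.act g) w) = D.Q w := by
  obtain ⟨x, hx⟩ := D.proj_surjective w.toMul
  rw [show w = Additive.ofMul (D.proj x) from congrArg Additive.ofMul hx.symm, act_mk, Q_mk, Q_mk]
  refine congrArg _ (Subtype.ext ?_)
  show g * (x : G) * g⁻¹ * (g * x * g⁻¹) = x * x
  rw [show g * (x : G) * g⁻¹ * (g * x * g⁻¹) = g * (x * x) * g⁻¹ by group, hg _ (D.sqR x x.2)]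

/-- Conjugation carries fibres to fibres. -/
theorem Q_eq_iff_act (g : G) (w : Additive D.W) (v : D.V) :
    D.Q w = Additive.ofMul v ↔
      D.Q (endo (D.act g) w) = Additive.ofMul ⟨g * v * g⁻¹, D.normV.conj_mem v v.2 g⟩ := by
  obtain ⟨x, hx⟩ := D.proj_surjective w.toMul
  rw [show w = Additive.ofMul (D.proj x) from congrArg Additive.ofMul hx.symm, act_mk, Q_mk, Q_mk,
    EmbeddingLike.apply_eq_iff_eq, EmbeddingLike.apply_eq_iff_eq, Subtype.ext_iff, Subtype.ext_iff]
  show (x : G) * x = v ↔ g * (x : G) * g⁻¹ * (g * x * g⁻¹) = g * v * g⁻¹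
  rw [show g * (x : G) * g⁻¹ * (g * x * g⁻¹) = g * (x * x) * g⁻¹ by group]
  exact ⟨fun h => by rw [h], fun h => mul_left_cancel (mul_right_cancel h)⟩

end SqData

end CfsgLib.InvolConj
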