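import Cfsg.Agent.Lib.InvolConj.Systems
import Mathlib.FieldTheory.ChevalleyWarning

/-!
# An anisotropic quadratic map has at most the square of its target
-/

set_option autoImplicit false

namespace CfsgLib.InvolConj

open MvPolynomial

universe u v

variable {W : Type u} [AddCommGroup W] {V : Type v} [AddCommGroup V] {Q : W → V}

theorem false_of_single_root {σ ι : Type} [Fintype σ] [DecidableEq σ] [Fintype ι]
    (P : ι → MvPolynomial σ (ZMod 2)) (hdeg : ∑ k, (P k).totalDegree < Fintype.card σ)
    (hone : ∀ c : σ → ZMod 2, (∀ k, eval c (P k) = 0) ↔ c = 0) : False := by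
  have h := char_dvd_card_solutions_of_fintype_sum_lt 2 hdeg
  rw [← Nat.card_eq_fintype_card, Nat.card_eq_one_iff_exists.2
    ⟨⟨0, (hone 0).2 rfl⟩, fun x => Subtype.ext ((hone x.1).1 x.2)⟩] at h
  omega

/-- An anisotropic quadratic map to `V` has a source of size at most `|V| ^ 2`. -/
theorem card_le_sq [Finite W] [Finite V] (h : Quad Q) : Nat.card W ≤ Nat.card V ^ 2 := by
  classical
  let _ : Module (ZMod 2) W := AddCommGroup.zmodModule fun x => by rw [two_nsmul]; exact h.twoW x
  let _ : Module (ZMod 2) V := AddCommGroup.zmodModule fun x => by rw [two_nsmul]; exact h.twoV x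
  have : FiniteDimensional (ZMod 2) W := Module.Finite.of_finite
  have : FiniteDimensional (ZMod 2) V := Module.Finite.of_finite
  set n := Module.finrank (ZMod 2) W with hn
  set m := Module.finrank (ZMod 2) V with hm
  have hW : Nat.card W = 2 ^ n := by rw [Module.natCard_eq_pow_finrank (K := ZMod 2), Nat.card_zmod]
  have hV : Nat.card V = 2 ^ m := by rw [Module.natCard_eq_pow_finrank (K := ZMod 2), Nat.card_zmod]
  rw [hW, hV, ← pow_mul]
  refine Nat.pow_le_pow_right two_pos ?_
  by_contra hlt
  let bW := Module.finBasis (ZMod 2) W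
  let bV := Module.finBasis (ZMod 2) V
  have hsm : ∀ (c : ZMod 2) (x : W), Q (c • x) = c • Q x := fun c x => by
    fin_cases c
    · show Q ((0 : ZMod 2) • x) = (0 : ZMod 2) • Q x
      rw [zero_smul, zero_smul, h.zero]
    · show Q ((1 : ZMod 2) • x) = (1 : ZMod 2) • Q x
      rw [one_smul, one_smul]
  let B : W → (W →+ V) := fun a =>
    { toFun := fun x => polar Q a x, map_zero' := h.polar_zero a, map_add' := fun x y => h.polar_add a x y }
  have hBs : ∀ (a : W) (c : ZMod 2) (x : W), polar Q (c • a) x = c • polar Q a x := fun a c x => by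
    fin_cases c
    · show polar Q ((0 : ZMod 2) • a) x = (0 : ZMod 2) • polar Q a x
      rw [zero_smul, zero_smul, polar_comm, h.polar_zero]
    · show polar Q ((1 : ZMod 2) • a) x = (1 : ZMod 2) • polar Q a x
      rw [one_smul, one_smul]
  -- linear forms
  have hlin : ∀ (s : Finset (Fin n)) (a : W) (k : Fin m), ∃ P : MvPolynomial (Fin n) (ZMod 2),
      P.totalDegree ≤ 1 ∧ ∀ c : Fin n → ZMod 2,
        eval c P = bV.repr (polar Q (∑ i ∈ s, c i • bW i) a) k := by
    intro s a k
    refine ⟨∑ i ∈ s, C (bV.repr (polar Q (bW i) a) k) * X i, ?_, fun c => ?_⟩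
    · refine totalDegree_finsetSum_le fun i _ => ?_
      exact (totalDegree_mul _ _).trans (by rw [totalDegree_C, totalDegree_X])
    · have e : polar Q (∑ i ∈ s, c i • bW i) a = ∑ i ∈ s, c i • polar Q (bW i) a := by
        rw [polar_comm]
        show B a (∑ i ∈ s, c i • bW i) = _
        rw [map_sum]
        refine Finset.sum_congr rfl fun i _ => ?_
        show polar Q a (c i • bW i) = _
        rw [polar_comm, hBs]
      rw [e, map_sum, map_sum, Finsupp.finsetSum_apply]
      refine Finset.sum_congr rfl fun i _ => ?_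
      rw [map_smul, Finsupp.smul_apply, smul_eq_mul, map_mul, eval_C, eval_X, mul_comm]
  have hquad : ∀ (s : Finset (Fin n)) (k : Fin m), ∃ P : MvPolynomial (Fin n) (ZMod 2),
      P.totalDegree ≤ 2 ∧ ∀ c : Fin n → ZMod 2,
        eval c P = bV.repr (Q (∑ i ∈ s, c i • bW i)) k := by
    intro s
    induction s using Finset.induction_on with
    | empty => exact fun k => ⟨0, by simp, fun c => by simp [h.zero]⟩
    | insert j s hj ih =>
      intro k
      obtain ⟨P, hP, hPe⟩ := ih k
      obtain ⟨L, hL, hLe⟩ := hlin s (bW j) k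
      refine ⟨P + (C (bV.repr (Q (bW j)) k) * X j + L * X j), ?_, fun c => ?_⟩
      · refine (totalDegree_add _ _).trans (max_le hP ((totalDegree_add _ _).trans (max_le ?_ ?_)))
        · exact (totalDegree_mul _ _).trans (by rw [totalDegree_C, totalDegree_X]; norm_num)
        · exact (totalDegree_mul _ _).trans (by rw [totalDegree_X]; omega)
      · rw [map_add, map_add, map_mul, map_mul, eval_C, eval_X, hPe, hLe, Finset.sum_insert hj, add_comm
          (c j • bW j), h.map_add, hsm, polar_comm Q _ (c j • bW j), hBs, map_add, map_add, map_smul,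
          map_smul, Finsupp.add_apply, Finsupp.add_apply, Finsupp.smul_apply, Finsupp.smul_apply,
          smul_eq_mul, smul_eq_mul, polar_comm Q (bW j)]
        ring
  choose P hP hPe using fun k => hquad Finset.univ k
  have hdeg : ∑ k, (P k).totalDegree < Fintype.card (Fin n) := by
    rw [Fintype.card_fin]
    calc ∑ k, (P k).totalDegree ≤ ∑ _k : Fin m, 2 := Finset.sum_le_sum fun k _ => hP k
      _ = m * 2 := by rw [Finset.sum_const, Finset.card_univ, Fintype.card_fin, smul_eq_mul]
      _ < n := by omega
  have hone : ∀ c : Fin n → ZMod 2, (∀ k, eval c (P k) = 0) ↔ c = 0 := by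
    intro c
    simp only [hPe]
    constructor
    · intro hc
      have h1 : Q (∑ i, c i • bW i) = 0 :=
        bV.repr.injective (by rw [map_zero]; exact Finsupp.ext fun k => hc k)
      have h2 := h.aniso _ h1
      exact funext fun i => Fintype.linearIndependent_iff.1 bW.linearIndependent c h2 i
    · rintro rfl k
      simp [h.zero]
  exact false_of_single_root P hdeg hone

end CfsgLib.InvolConj
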