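import Cfsg.Agent.Lib.InvolConj.Systems

/-!
# The size of a space with a system of inverted isometries
-/

set_option autoImplicit false

namespace CfsgLib.InvolConj

universe u v

variable {W : Type u} [AddCommGroup W] {V : Type v} [AddCommGroup V] {Q : W → V}

/-- The restriction of an automorphism to an invariant subgroup. -/
noncomputable def resAuto [Finite W] (X : AddSubgroup W) (g : Auto W)
    (hg : ∀ x ∈ X, endo g x ∈ X) : Auto X where
  val := ((endo g).comp X.subtype).codRestrict X fun x => hg x x.2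
  inv := ((endo g⁻¹).comp X.subtype).codRestrict X fun x => inv_mem_of_finite hg x x.2
  val_inv := AddMonoidHom.ext fun x => Subtype.ext (endo_apply_inv g x)
  inv_val := AddMonoidHom.ext fun x => Subtype.ext (endo_inv_apply g x)

theorem resAuto_apply [Finite W] {X : AddSubgroup W} {g : Auto W} (hg : ∀ x ∈ X, endo g x ∈ X)
    (x : X) : (endo (resAuto X g hg) x : W) = endo g x := rfl

theorem resAuto_ext [Finite W] {X : AddSubgroup W} {a b : Auto X}
    (h : ∀ x : X, (endo a x : W) = endo b x) : a = b :=
  Units.ext (AddMonoidHom.ext fun x => Subtype.ext (h x))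

theorem resAuto_pow [Finite W] {X : AddSubgroup W} {g : Auto W} (hg : ∀ x ∈ X, endo g x ∈ X) (x : X) :
    ∀ k : ℕ, (endo (resAuto X g hg ^ k) x : W) = endo (g ^ k) x := by
  intro k
  induction k generalizing x with
  | zero => rfl
  | succ k ih =>
    rw [pow_succ, pow_succ, endo_mul, endo_mul]
    exact ih _

theorem Sys.mono {ι : Type} {X : AddSubgroup W} {I J : Finset ι} {q e : ι → Auto W}
    (hs : Sys Q X I q e) {Y : AddSubgroup W} (hJ : J ⊆ I)
    (hq : ∀ i ∈ J, ∀ x ∈ Y, endo (q i) x ∈ Y) (he : ∀ i ∈ J, ∀ x ∈ Y, endo (e i) x ∈ Y)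
    (hne : ∀ i ∈ J, ∃ x ∈ Y, endo (q i) x ≠ x) : Sys Q Y J q e where
  inv_q := hq
  inv_e := he
  iso i hi := hs.iso i (hJ hi)
  comm i hi j hj := hs.comm i (hJ hi) j (hJ hj)
  prime i hi := hs.prime i (hJ hi)
  inverts i hi := hs.inverts i (hJ hi)
  cen i hi j hj := hs.cen i (hJ hi) j (hJ hj)
  ne := hne

theorem odd_of_prime {r : ℕ} (hr : r.Prime) (h2 : r ≠ 2) : Odd r := hr.odd_of_ne_two h2

/-- The induction on the size of the space. -/
theorem sys_card_aux [Finite W] (h : Quad Q) {ι : Type} : ∀ (n : ℕ) (X : AddSubgroup W) (I : Finset ι)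
    (q e : ι → Auto W), Nat.card X ≤ n → Sys Q X I q e →
      4 ^ I.card ≤ Nat.card X ∧ (I.Nonempty → Nat.card X = 4 ^ I.card → HasPlane Q X) := by
  classical
  intro n
  induction n using Nat.strong_induction_on with
  | _ n IH =>
    intro X I q e hcard hs
    rcases I.eq_empty_or_nonempty with rfl | hI
    · exact ⟨by rw [Finset.card_empty, pow_zero]; exact Nat.card_pos,
        fun hne => absurd hne Finset.not_nonempty_empty⟩
    by_cases hsplit : ∃ i ∈ I, ∃ x ∈ X, x ≠ 0 ∧ endo (q i) x = x
    · -- split along `q i`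
      obtain ⟨i, hi, x0, hx0, hx00, hfx⟩ := hsplit
      obtain ⟨r, hr, hr2, hqr⟩ := hs.prime i hi
      obtain ⟨hCX, hDX, hdec, horth, hmul⟩ :=
        split h (odd_of_prime hr hr2) hqr (hs.inv_q i hi) (hs.iso i hi)
      set C := fixIn X (q i)
      set D := dispIn X (q i)
      set I0 := I.filter fun l => ∃ x ∈ C, endo (q l) x ≠ x with hI0
      set I1 := I \ I0 with hI1
      have hC2 : 2 ≤ Nat.card C := by
        by_contra hlt
        have h1 : Subsingleton C := Finite.card_le_one_iff_subsingleton.1 (by omega)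
        exact hx00 (congrArg Subtype.val
          (h1.elim ⟨x0, mem_fixIn.2 ⟨hx0, hfx⟩⟩ 0))
      have hD2 : 2 ≤ Nat.card D := by
        by_contra hlt
        have h1 : Subsingleton D := Finite.card_le_one_iff_subsingleton.1 (by omega)
        obtain ⟨y, hy, hne⟩ := hs.ne i hi
        have := congrArg Subtype.val (h1.elim ⟨_, mem_dispIn.2 ⟨y, hy, rfl⟩⟩ (0 : D))
        exact hne (h.eq_of_add_eq_zero this)
      have hC0 : Nat.card C < Nat.card X := by rw [hmul]; nlinarith
      have hD0 : Nat.card D < Nat.card X := by rw [hmul]; nlinarith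
      have hrel : ∀ l ∈ I, e l * q i = q i * e l ∨ e l * q i = (q i)⁻¹ * e l := fun l hl => by
        rcases eq_or_ne l i with rfl | hli
        · exact Or.inr (hs.inverts l hl)
        · exact Or.inl (hs.cen l hl i hi hli)
      have hinvg := inv_mem_of_finite (hs.inv_q i hi)
      have hsC : Sys Q C I0 q e := hs.mono (Finset.filter_subset _ _)
        (fun l hl => fixIn_inv (hs.inv_q l (Finset.filter_subset _ _ hl))
          (Or.inl (hs.comm l (Finset.filter_subset _ _ hl) i hi)))
        (fun l hl => fixIn_inv (hs.inv_e l (Finset.filter_subset _ _ hl))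
          (hrel l (Finset.filter_subset _ _ hl)))
        fun l hl => (Finset.mem_filter.1 hl).2
      have hI1I : I1 ⊆ I := Finset.sdiff_subset
      have hsD : Sys Q D I1 q e := hs.mono hI1I
        (fun l hl => dispIn_inv h (hs.inv_q l (hI1I hl)) hinvg (Or.inl (hs.comm l (hI1I hl) i hi)))
        (fun l hl => dispIn_inv h (hs.inv_e l (hI1I hl)) hinvg (hrel l (hI1I hl)))
        fun l hl => by
          obtain ⟨hlI, hl0⟩ := Finset.mem_sdiff.1 hl
          by_contra hno
          push Not at hno
          obtain ⟨x, hx, hne⟩ := hs.ne l hlI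
          obtain ⟨c, hc, d, hd, rfl⟩ := hdec x hx
          refine hne ?_
          have hc' : endo (q l) c = c := by
            by_contra hc'
            exact hl0 (Finset.mem_filter.2 ⟨hlI, c, hc, hc'⟩)
          rw [map_add, hc', hno d hd]
      obtain ⟨hC4, -⟩ := IH _ (hC0.trans_le hcard) C I0 q e le_rfl hsC
      obtain ⟨hD4, hDP⟩ := IH _ (hD0.trans_le hcard) D I1 q e le_rfl hsD
      have hsum : I0.card + I1.card = I.card := by
        rw [hI1, add_comm, Finset.card_sdiff_add_card_eq_card (Finset.filter_subset _ _)]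
      refine ⟨by rw [hmul, ← hsum, pow_add]; exact Nat.mul_le_mul hC4 hD4, fun _ heq => ?_⟩
      rw [hmul, ← hsum, pow_add] at heq
      have hD : Nat.card D = 4 ^ I1.card := by
        refine le_antisymm ?_ hD4
        by_contra hlt
        have := Nat.mul_lt_mul_of_le_of_lt hC4 (not_le.1 hlt) Nat.card_pos
        omega
      have hiI1 : i ∈ I1 := Finset.mem_sdiff.2 ⟨hi, fun hmem => by
        obtain ⟨x, hx, hne⟩ := (Finset.mem_filter.1 hmem).2
        exact hne (mem_fixIn.1 hx).2⟩
      obtain ⟨P, D', v, hP, hD', hP4, hPv, hPdec, hPorth⟩ := hDP ⟨i, hiI1⟩ hD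
      refine ⟨P, D' ⊔ C, v, hP.trans hDX, sup_le (hD'.trans hDX) hCX, hP4, hPv, fun x hx => ?_, ?_⟩
      · obtain ⟨c, hc, d, hd, rfl⟩ := hdec x hx
        obtain ⟨a, ha, b, hb, rfl⟩ := hPdec d hd
        exact ⟨a, ha, b + c, AddSubgroup.add_mem_sup hb hc, by abel⟩
      · intro a ha b hb
        obtain ⟨b', hb', c, hc, rfl⟩ := AddSubgroup.mem_sup.1 hb
        rw [h.polar_add, hPorth a ha b' hb', polar_comm Q a c, horth c hc a (hP ha), add_zero]
    push Not at hsplit
    have hfpf : ∀ l ∈ I, ∀ x ∈ X, endo (q l) x = x → x = 0 := fun l hl x hx hfx => by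
      by_contra hx0
      exact hsplit l hl x hx hx0 hfx
    obtain ⟨i, hi⟩ := hI
    obtain ⟨y0, hy0, hy0ne⟩ := hs.ne i hi
    have hy00 : y0 ≠ 0 := fun e0 => hy0ne (by rw [e0, map_zero])
    obtain ⟨r, hr, hr2, hqr⟩ := hs.prime i hi
    by_cases hone : ∀ j ∈ I, j = i
    · -- a single isometry
      have hk : I.card = 1 := Finset.card_eq_one.2 ⟨i, Finset.eq_singleton_iff_unique_mem.2 ⟨hi, hone⟩⟩
      obtain ⟨h4, horb⟩ := orbit_of_fpf (odd_of_prime hr hr2) hqr (hs.inv_q i hi) (hfpf i hi) hy0 hy00
      rw [hk, pow_one]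
      refine ⟨h4, fun _ heq => ?_⟩
      refine ⟨X, ⊥, Q y0, le_rfl, bot_le, heq, fun x hx hx0 => ?_,
        fun x hx => ⟨x, hx, 0, zero_mem _, add_zero x⟩, fun a _ b hb => by
          rw [AddSubgroup.mem_bot.1 hb, h.polar_zero]⟩
      rcases (horb heq).2 x hx hx0 with rfl | rfl | rfl
      · rfl
      · rw [hs.iso i hi]
      · rw [hs.iso i hi, hs.iso i hi]
    push Not at hone
    obtain ⟨j, hj, hji⟩ := hone
    obtain ⟨r', hr', hr2', hqr'⟩ := hs.prime j hj
    have : Nontrivial X := ⟨⟨⟨y0, hy0⟩, 0, fun e0 => hy00 (congrArg Subtype.val e0)⟩⟩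
    have hodd : Odd (r * r') := (odd_of_prime hr hr2).mul (odd_of_prime hr' hr2')
    have hqn : ∀ l, l = i ∨ l = j → q l ^ (r * r') = 1 := by
      rintro l (rfl | rfl)
      · rw [pow_mul, hqr, one_pow]
      · rw [mul_comm, pow_mul, hqr', one_pow]
    have hres : ∀ (g : Auto W) (hg : ∀ x ∈ X, endo g x ∈ X) (m : ℕ), g ^ m = 1 →
        resAuto X g hg ^ m = 1 := fun g hg m hm => resAuto_ext fun x => by
      rw [resAuto_pow, hm]; rfl
    have hinvq : ∀ l ∈ I, ∀ x ∈ X, endo (q l)⁻¹ x ∈ X := fun l hl => inv_mem_of_finite (hs.inv_q l hl)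
    obtain ⟨Y, hY0, hYinv, hYcase⟩ := exists_split (X := X) (fun x => Subtype.ext (h.twoW x)) hodd
      (q := resAuto X (q i) (hs.inv_q i hi)) (p := resAuto X (q j) (hs.inv_q j hj))
      (e := resAuto X (e i) (hs.inv_e i hi)) (d := resAuto X (e j) (hs.inv_e j hj))
      (hres _ _ _ (hqn i (Or.inl rfl))) (hres _ _ _ (hqn j (Or.inr rfl)))
      (resAuto_ext fun x => endo_commute_apply (hs.comm i hi j hj) x)
      (fun x hx => Subtype.ext (hfpf i hi x x.2 (congrArg Subtype.val hx)))
      (fun x hx => Subtype.ext (hfpf j hj x x.2 (congrArg Subtype.val hx)))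
      (resAuto_ext fun x => DFunLike.congr_fun (congrArg endo (hs.inverts i hi)) (x : W))
      (resAuto_ext fun x => endo_commute_apply (hs.cen i hi j hj hji.symm) x)
      (resAuto_ext fun x => DFunLike.congr_fun (congrArg endo (hs.inverts j hj)) (x : W))
      (resAuto_ext fun x => endo_commute_apply (hs.cen j hj i hi hji) x)
    set Y' : AddSubgroup W := Y.map X.subtype with hY'
    have hY'X : Y' ≤ X := by rintro _ ⟨y, -, rfl⟩; exact y.2
    have hY'card : Nat.card Y' = Nat.card Y :=
      (Nat.card_congr (Y.equivMapOfInjective X.subtype X.subtype_injective).toEquiv).symm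
    obtain ⟨⟨y1, hy1X⟩, hy1, hy10⟩ := (AddSubgroup.bot_or_exists_ne_zero Y).resolve_left hY0
    have hy1' : y1 ∈ Y' := ⟨⟨y1, hy1X⟩, hy1, rfl⟩
    have hy10' : y1 ≠ 0 := fun e0 => hy10 (Subtype.ext e0)
    have hYg : ∀ (g : Auto W) (hg : ∀ x ∈ X, endo g x ∈ X), g * q i = q i * g → g * q j = q j * g →
        ∀ x ∈ Y', endo g x ∈ Y' := by
      rintro g hg h1 h2 _ ⟨x, hx, rfl⟩
      exact ⟨_, hYinv (resAuto X g hg) (resAuto_ext fun x => endo_commute_apply h1 x)
        (resAuto_ext fun x => endo_commute_apply h2 x) x hx, rfl⟩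
    have hY'q : ∀ l ∈ I, ∀ x ∈ Y', endo (q l) x ∈ Y' := fun l hl =>
      hYg _ (hs.inv_q l hl) (hs.comm l hl i hi) (hs.comm l hl j hj)
    have hY'e : ∀ l ∈ I, l ≠ i → l ≠ j → ∀ x ∈ Y', endo (e l) x ∈ Y' := fun l hl hli hlj =>
      hYg _ (hs.inv_e l hl) (hs.cen l hl i hi hli) (hs.cen l hl j hj hlj)
    have hY'ne : ∀ l ∈ I, ∃ x ∈ Y', endo (q l) x ≠ x := fun l hl =>
      ⟨y1, hy1', fun e0 => hy10' (hfpf l hl y1 hy1X e0)⟩
    obtain ⟨hY4, horb⟩ := orbit_of_fpf (odd_of_prime hr hr2) hqr (hY'q i hi)
      (fun y hy => hfpf i hi y (hY'X hy)) hy1' hy10'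
    have hk2 : 2 ≤ I.card := by
      rw [← Finset.card_pair hji.symm]
      exact Finset.card_le_card (by
        intro l hl
        simp only [Finset.mem_insert, Finset.mem_singleton] at hl
        rcases hl with rfl | rfl <;> assumption)
    rcases hYcase with ⟨hwhich, hsq⟩ | hfour
    · rw [← hY'card] at hsq
      have hYlt : Nat.card Y' < n := lt_of_lt_of_le (by nlinarith) (hsq.trans hcard)
      have hsys : ∃ (J : Finset ι) (e' : ι → Auto W), J.card + 1 = I.card ∧ Sys Q Y' J q e' := by
        rcases hwhich with he | he | he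
        · refine ⟨I.erase j, e, by rw [Finset.card_erase_add_one hj], hs.mono (Finset.erase_subset _ _)
            (fun l hl => hY'q l (Finset.erase_subset _ _ hl)) (fun l hl => ?_)
            fun l hl => hY'ne l (Finset.erase_subset _ _ hl)⟩
          obtain ⟨hlj, hlI⟩ := Finset.mem_erase.1 hl
          rcases eq_or_ne l i with rfl | hli
          · rintro _ ⟨x, hx, rfl⟩; exact ⟨_, he x hx, rfl⟩
          · exact hY'e l hlI hli hlj
        · refine ⟨I.erase i, e, by rw [Finset.card_erase_add_one hi], hs.mono (Finset.erase_subset _ _)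
            (fun l hl => hY'q l (Finset.erase_subset _ _ hl)) (fun l hl => ?_)
            fun l hl => hY'ne l (Finset.erase_subset _ _ hl)⟩
          obtain ⟨hli, hlI⟩ := Finset.mem_erase.1 hl
          rcases eq_or_ne l j with rfl | hlj
          · rintro _ ⟨x, hx, rfl⟩; exact ⟨_, he x hx, rfl⟩
          · exact hY'e l hlI hli hlj
        · refine ⟨I.erase j, Function.update e i (e i * e j), by rw [Finset.card_erase_add_one hj], ?_⟩
          have hsub := fun l (hl : l ∈ I.erase j) => (Finset.mem_erase.1 hl).2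
          refine
            { inv_q := fun l hl => hY'q l (hsub l hl)
              inv_e := fun l hl => ?_
              iso := fun l hl => hs.iso l (hsub l hl)
              comm := fun l hl m hm => hs.comm l (hsub l hl) m (hsub m hm)
              prime := fun l hl => hs.prime l (hsub l hl)
              inverts := fun l hl => ?_
              cen := fun l hl m hm hlm => ?_
              ne := fun l hl => hY'ne l (hsub l hl) }
          · obtain ⟨hlj, hlI⟩ := Finset.mem_erase.1 hl
            rcases eq_or_ne l i with rfl | hli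
            · rw [Function.update_self]
              rintro _ ⟨x, hx, rfl⟩
              exact ⟨_, he x hx, rfl⟩
            · rw [Function.update_of_ne hli]; exact hY'e l hlI hli hlj
          · rcases eq_or_ne l i with rfl | hli
            · rw [Function.update_self, mul_assoc, hs.cen j hj l hi hji, ← mul_assoc, hs.inverts l hi,
                mul_assoc]
            · rw [Function.update_of_ne hli]; exact hs.inverts l (hsub l hl)
          · obtain ⟨hmj, hmI⟩ := Finset.mem_erase.1 hm
            rcases eq_or_ne l i with rfl | hli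
            · rw [Function.update_self, mul_assoc, hs.cen j hj m hmI (Ne.symm hmj), ← mul_assoc,
                hs.cen l hi m hmI hlm, mul_assoc]
            · rw [Function.update_of_ne hli]; exact hs.cen l (hsub l hl) m hmI hlm
      obtain ⟨J, e', hJ, hsysJ⟩ := hsys
      obtain ⟨hY4k, -⟩ := IH _ hYlt Y' J q e' le_rfl hsysJ
      have hbig : 4 ^ (2 * J.card) ≤ Nat.card X :=
        le_trans (by rw [mul_comm, pow_mul]; exact Nat.pow_le_pow_left hY4k 2) hsq
      refine ⟨le_trans (Nat.pow_le_pow_right (by norm_num) (by omega)) hbig, fun _ heq => ?_⟩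
      have hk : I.card = 2 := by
        have := (Nat.pow_le_pow_iff_right (by norm_num : 1 < 4)).1 (heq ▸ hbig)
        omega
      have hX16 : Nat.card X = 16 := by rw [heq, hk]; norm_num
      have hYc : Nat.card Y' = 4 := le_antisymm (by nlinarith) hY4
      obtain ⟨h3, hall⟩ := horb hYc
      set g := q i
      set p := q j
      have hgp : g * p = p * g := hs.comm i hi j hj
      have hgen : ∀ t : Auto W, t * g = g * t → endo t y1 = y1 → ∀ z ∈ Y', endo t z = z := by
        intro t ht ht1 z hz
        by_cases hz0 : z = 0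
        · rw [hz0, map_zero]
        rcases hall z hz hz0 with rfl | rfl | rfl
        · exact ht1
        · rw [endo_commute_apply ht, ht1]
        · rw [endo_commute_apply ht, endo_commute_apply ht, ht1]
      -- an element centralising the plane, whose conjugate has no common fixed point
      have hb : ∃ b b' : Auto W, (∀ z ∈ Y', endo b z = z) ∧ b ^ (r * r') = 1 ∧
          (∀ x, Q (endo b x) = Q x) ∧ (∀ x ∈ X, endo b x ∈ X) ∧ e i * b = b' * e i ∧
          (∀ x ∈ X, endo b x = x → endo b' x = x → x = 0) := by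
        have hp1 : endo p y1 ≠ 0 := fun e0 => hy10' (endo_injective p (e0.trans (map_zero _).symm))
        have hp2 : endo p y1 ≠ y1 := fun e0 => hy10' (hfpf j hj y1 hy1X e0)
        have hcase := ((hall _ (hY'q j hj y1 hy1') hp1).resolve_left hp2)
        have hgc : Commute g p := hgp
        have hpow : ∀ t : Auto W, Commute p t → t ^ (r * r') = 1 → (p * t) ^ (r * r') = 1 := fun t ht h1 => by
          rw [ht.mul_pow, hqn j (Or.inr rfl), h1, one_mul]
        have hiso : ∀ x, Q (endo g x) = Q x := hs.iso i hi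
        have hisoinv : ∀ x, Q (endo g⁻¹ x) = Q x := fun x => by
          rw [← hiso (endo g⁻¹ x), endo_apply_inv]
        have hcommfix : ∀ x ∈ X, endo (p * g) x = x → endo (p * g⁻¹) x = x → x = 0 := by
          intro x hx e1 e2
          change endo p (endo g x) = x at e1
          change endo p (endo g⁻¹ x) = x at e2
          have e3 := endo_injective p (e1.trans e2.symm)
          have e4 : endo g (endo g x) = x := by rw [e3, endo_apply_inv]
          exact hfpf i hi x hx (eq_self_of_sq_fix (odd_of_prime hr hr2) hqr e4)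
        have hep : e i * p = p * e i := hs.cen i hi j hj hji.symm
        have heg : e i * g = g⁻¹ * e i := hs.inverts i hi
        have heg' : e i * g⁻¹ = g * e i := by
          rw [eq_comm, ← mul_inv_eq_iff_eq_mul.2 (show e i = g * e i * g from by
            rw [mul_assoc, heg, ← mul_assoc, mul_inv_cancel, one_mul])]
        rcases hcase with e1 | e1
        · refine ⟨p * g⁻¹, p * g, hgen _ (hgc.symm.mul_left (Commute.refl g).inv_left).eq ?_,
            hpow _ (hgc.symm.inv_right) (by rw [inv_pow, hqn i (Or.inl rfl), inv_one]),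
            fun x => by rw [endo_mul]; exact (hs.iso j hj _).trans (hisoinv x),
            fun x hx => hs.inv_q j hj _ (hinvq i hi x hx), ?_, fun x hx a b => hcommfix x hx b a⟩
          · show endo p (endo g⁻¹ y1) = y1
            rw [endo_commute_apply hgc.symm.inv_right.eq, e1, endo_inv_apply]
          · rw [← mul_assoc, hep, mul_assoc, heg', mul_assoc]
        · refine ⟨p * g, p * g⁻¹, hgen _ (hgc.symm.mul_left (Commute.refl g)).eq ?_,
            hpow _ hgc.symm (hqn i (Or.inl rfl)),
            fun x => by rw [endo_mul]; exact (hs.iso j hj _).trans (hiso x),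
            fun x hx => hs.inv_q j hj _ (hs.inv_q i hi x hx), ?_, fun x hx a b => hcommfix x hx a b⟩
          · show endo p (endo g y1) = y1
            rw [endo_commute_apply hgc.symm.eq, e1, h3]
          · rw [← mul_assoc, hep, mul_assoc, heg, mul_assoc]
      obtain ⟨b, b', hbY, hbn, hbiso, hbX, heb, hbb'⟩ := hb
      obtain ⟨hCX, hDX, hdec, horth, hmul⟩ := split h hodd hbn hbX hbiso
      have hC : Y' = fixIn X b := by
        have hle : Y' ≤ fixIn X b := fun z hz => mem_fixIn.2 ⟨hY'X hz, hbY z hz⟩
        have hsize : Nat.card (fixIn X b) * Nat.card (fixIn X b) ≤ 16 := by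
          rw [← Nat.card_prod, ← hX16]
          refine Nat.card_le_card_of_injective (fun z : fixIn X b × fixIn X b =>
            (⟨z.1 + endo (e i) z.2, add_mem (hCX z.1.2) (hs.inv_e i hi _ (hCX z.2.2))⟩ : X))
            fun z w hzw => ?_
          have e0 : (z.1 : W) + endo (e i) z.2 = w.1 + endo (e i) w.2 := congrArg Subtype.val hzw
          have e1 : (z.1 : W) - w.1 = endo (e i) ((w.2 : W) - z.2) := by
            rw [map_sub]; exact sub_eq_sub_iff_add_eq_add.2 (by rw [e0]; abel)
          have hd := mem_fixIn.1 (sub_mem w.2.2 z.2.2)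
          have h0 : (z.1 : W) - w.1 = 0 := by
            refine hbb' _ (sub_mem (hCX z.1.2) (hCX w.1.2)) (mem_fixIn.1 (sub_mem z.1.2 w.1.2)).2 ?_
            rw [e1]
            have e5 := DFunLike.congr_fun (congrArg endo heb) ((w.2 : W) - z.2)
            change endo (e i) (endo b ((w.2 : W) - z.2)) = endo b' (endo (e i) ((w.2 : W) - z.2)) at e5
            rw [hd.2] at e5
            exact e5.symm
          have e6 : (w.2 : W) - z.2 = 0 :=
            endo_injective (e i) ((e1.symm.trans h0).trans (map_zero _).symm)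
          exact Prod.ext (Subtype.ext (sub_eq_zero.1 h0)) (Subtype.ext (sub_eq_zero.1 e6).symm)
        refine AddSubgroup.eq_of_le_of_card_ge hle ?_
        nlinarith
      refine ⟨Y', dispIn X b, Q y1, hY'X, hDX, hYc, fun z hz hz0 => ?_,
        fun x hx => by rw [hC]; exact hdec x hx, fun a ha c hc => horth a (hC ▸ ha) c hc⟩
      rcases hall z hz hz0 with rfl | rfl | rfl
      · rfl
      · rw [hs.iso i hi]
      · rw [hs.iso i hi, hs.iso i hi]
    · -- four independent images
      rw [← hY'card] at hfour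
      set J := (I.erase i).erase j with hJ
      have hJI : J ⊆ I := (Finset.erase_subset _ _).trans (Finset.erase_subset _ _)
      have hJc : J.card + 2 = I.card := by
        rw [hJ, Finset.card_erase_of_mem (Finset.mem_erase.2 ⟨hji, hj⟩), Finset.card_erase_of_mem hi]
        omega
      have hYlt : Nat.card Y' < n := by
        refine lt_of_lt_of_le ?_ (hfour.trans hcard)
        calc Nat.card Y' = Nat.card Y' ^ 1 := (pow_one _).symm
          _ < Nat.card Y' ^ 4 := Nat.pow_lt_pow_right (by omega) (by norm_num)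
      have hsys : Sys Q Y' J q e := hs.mono hJI (fun l hl => hY'q l (hJI hl))
        (fun l hl => by
          obtain ⟨hlj, hl'⟩ := Finset.mem_erase.1 hl
          exact hY'e l (hJI hl) (Finset.mem_erase.1 hl').1 hlj) fun l hl => hY'ne l (hJI hl)
      obtain ⟨hY4k, -⟩ := IH _ hYlt Y' J q e le_rfl hsys
      have hlt : 4 ^ I.card < Nat.card X := by
        refine lt_of_lt_of_le ?_ hfour
        rcases Nat.eq_zero_or_pos J.card with h0 | h0
        · calc 4 ^ I.card = 4 ^ 2 := by rw [← hJc, h0]
            _ < 4 ^ 4 := by norm_num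
            _ ≤ Nat.card Y' ^ 4 := Nat.pow_le_pow_left hY4 4
        · calc 4 ^ I.card < 4 ^ (J.card * 4) := Nat.pow_lt_pow_right (by norm_num) (by omega)
            _ = (4 ^ J.card) ^ 4 := pow_mul _ _ _
            _ ≤ Nat.card Y' ^ 4 := Nat.pow_le_pow_left hY4k 4
      exact ⟨hlt.le, fun _ heq => absurd heq hlt.ne'⟩

/-- A system of `k` commuting isometries inverted one at a time needs `4 ^ k` points, with a plane
in case of equality. -/
theorem sys_card [Finite W] (h : Quad Q) {ι : Type} {X : AddSubgroup W} {I : Finset ι}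
    {q e : ι → Auto W} (hs : Sys Q X I q e) :
    4 ^ I.card ≤ Nat.card X ∧ (I.Nonempty → Nat.card X = 4 ^ I.card → HasPlane Q X) :=
  sys_card_aux h _ X I q e le_rfl hs

end CfsgLib.InvolConj
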