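import Cfsg.Agent.Lib.Comp.Local
import Cfsg.Agent.Lib.OddLocal.FittingHall
import Cfsg.Agent.Lib.OddLocal.FixedPointLemma
import Cfsg.Agent.Lib.ClassK.Core

/-!
# An elementary abelian 2-group acting faithfully on a nilpotent group of odd order
-/

set_option autoImplicit false

namespace CfsgLib.InvolConj

open Subgroup
open scoped commutatorElement

universe u

variable {Γ : Type u} [Group Γ] [Finite Γ]

theorem conj_inv_of_sq {e q : Γ} (he : e * e = 1) (h : e * q * e = q⁻¹) : e * q = q⁻¹ * e := by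
  rw [← h, mul_assoc (e * q), he, mul_one]

/-- An element inverted or centralised by each element of `E`, and not centralised by `E1`. -/
theorem exists_eigen {F E E1 : Subgroup Γ} (hF : Group.IsNilpotent F) (hodd : (Nat.card F).Coprime 2)
    (hEF : E ≤ normalizer (F : Set Γ)) (hsq : ∀ e ∈ E, e * e = 1) (hcomm : ∀ a ∈ E, ∀ b ∈ E, a * b = b * a)
    (hE1 : E1 ≤ E) (hne : ∃ e ∈ E1, e ∉ centralizer (F : Set Γ)) :
    ∃ q ∈ F, (∀ x ∈ E, x * q * x = q ∨ x * q * x = q⁻¹) ∧
      (∃ r : ℕ, r.Prime ∧ r ≠ 2 ∧ orderOf q = r) ∧ ∃ e ∈ E1, e * q * e = q⁻¹ := by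
  classical
  have hex : ∃ n, ∃ D : Subgroup Γ, D ≤ F ∧ E ≤ normalizer (D : Set Γ) ∧
      (∃ e ∈ E1, e ∉ centralizer (D : Set Γ)) ∧ Nat.card D = n := ⟨_, F, le_rfl, hEF, hne, rfl⟩
  obtain ⟨F0, hF0F, hF0E, ⟨e, he, hec⟩, hF0c⟩ := Nat.find_spec hex
  have hmin : ∀ D : Subgroup Γ, D < F0 → E ≤ normalizer (D : Set Γ) →
      E1 ≤ centralizer (D : Set Γ) := by
    intro D hD hDE x hx
    by_contra hxc
    refine Nat.find_min hex (m := Nat.card D) ?_ ⟨D, hD.le.trans hF0F, hDE, ⟨x, hx, hxc⟩, rfl⟩
    rw [← hF0c]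
    refine lt_of_not_ge fun hge => hD.ne ?_
    exact eq_of_le_of_card_ge hD.le hge
  have hFs : Group.IsSolvable F := inferInstance
  have hF0s : Group.IsSolvable F0 := CfsgLib.Coprime.isSolvable_of_le hFs hF0F
  have hconjE : ∀ {x : Γ}, x ∈ E → ∀ {a : Γ}, a ∈ F0 → x * a * x ∈ F0 := fun {x} hx {a} ha => by
    have h := (mem_normalizer_iff.1 (hF0E hx) a).1 ha
    rwa [inv_eq_of_mul_eq_one_right (hsq x hx)] at h
  set D := F0 ⊓ centralizer (E1 : Set Γ) with hD
  have hDlt : D < F0 := lt_of_le_of_ne inf_le_left fun h => hec (mem_centralizer_iff.2 fun a ha =>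
    (mem_centralizer_iff.1 ((inf_eq_left.1 h) ha) e he).symm)
  have hfixed : ∀ x ∈ E, x ∉ centralizer (F0 : Set Γ) →
      F0 ⊓ centralizer (zpowers x : Set Γ) ≤ D := by
    intro x hx hxc
    have hlt : F0 ⊓ centralizer (zpowers x : Set Γ) < F0 := lt_of_le_of_ne inf_le_left fun h =>
      hxc (mem_centralizer_iff.2 fun a ha =>
        (mem_centralizer_iff.1 ((inf_eq_left.1 h) ha) x (mem_zpowers x)).symm)
    refine le_inf inf_le_left (le_centralizer_iff.1 (hmin _ hlt fun y hy => ?_))
    have hyx : Commute y x := hcomm y hy x hx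
    refine inf_normalizer_le_normalizer_inf ⟨hF0E hy, ?_⟩
    refine mem_normalizer_iff.2 ?_
    intro a
    simp only [mem_centralizer_iff, SetLike.mem_coe]
    constructor
    · intro ha t ht
      obtain ⟨k, rfl⟩ := mem_zpowers_iff.1 ht
      have h1 : Commute y (x ^ k) := hyx.zpow_right k
      have h2 : Commute (x ^ k) a := ha _ ht
      exact (h1.symm.mul_right h2).mul_right h1.symm.inv_right
    · intro ha t ht
      obtain ⟨k, rfl⟩ := mem_zpowers_iff.1 ht
      have h1 : Commute y (x ^ k) := hyx.zpow_right k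
      have h2 : Commute (x ^ k) (y * a * y⁻¹) := ha _ ht
      have h3 := (h1.symm.inv_right.mul_right h2).mul_right h1.symm
      rwa [show y⁻¹ * (y * a * y⁻¹) * y = a by group] at h3
  -- the derived subgroup of `F0` is central modulo, so a coset fixed by two of `x, y, x * y` is trivial
  have hder : ⁅F0, F0⁆ ≤ D := by
    have hlt : ⁅F0, F0⁆ < F0 := by
      have : Nontrivial F0 := by
        refine (Subgroup.nontrivial_iff_ne_bot F0).2 fun h => ?_
        exact hec (h ▸ mem_centralizer_iff.2 fun a ha => by rw [mem_bot.1 ha, one_mul, mul_one])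
      have h1 := (Subgroup.map_lt_map_iff_of_injective F0.subtype_injective).2
        (Group.IsSolvable.commutator_lt_top_of_nontrivial F0)
      rwa [← MonoidHom.range_eq_map, Subgroup.range_subtype, commutator_def, Subgroup.map_commutator,
        ← MonoidHom.range_eq_map, Subgroup.range_subtype] at h1
    refine le_inf (commutator_le_self F0) (le_centralizer_iff.1 (hmin _ hlt fun y hy => ?_))
    exact CfsgLib.OddLocal.le_normalizer_commutator hF0E hF0E hy
  have hDn : F0 ≤ normalizer (D : Set Γ) := by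
    rw [le_normalizer_iff_commutator_le_left]
    exact (commutator_mono inf_le_left le_rfl).trans hder
  have hDE : E ≤ normalizer (D : Set Γ) := by
    intro y hy
    rw [mem_normalizer_iff]
    have hmap : ∀ a ∈ D, y * a * y⁻¹ ∈ D := fun a ha => by
      rw [inv_eq_of_mul_eq_one_right (hsq y hy)]
      refine ⟨hconjE hy ha.1, mem_centralizer_iff.2 fun t ht => ?_⟩
      have h1 : Commute t y := hcomm t (hE1 ht) y hy
      have h2 : Commute t a := mem_centralizer_iff.1 ha.2 t ht
      exact (h1.mul_right h2).mul_right h1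
    intro a
    refine ⟨hmap a, fun h => ?_⟩
    have h1 := hmap _ h
    rw [inv_eq_of_mul_eq_one_right (hsq y hy)] at h1
    rwa [show y * (y * a * y) * y = (y * y) * a * (y * y) by group, hsq y hy, one_mul, mul_one] at h1
  have hinvert : ∀ x ∈ E, x ∉ centralizer (F0 : Set Γ) → ∀ b ∈ F0, b * (x * b * x) ∈ D := by
    intro x hx hxc b hb
    have hbx := hconjE hx hb
    have hsqx := hsq x hx
    set c := b * (x * b * x) with hc
    have hxz : zpowers x ≤ E := zpowers_le.2 hx
    obtain ⟨m, hm, hcm⟩ := CfsgLib.Coprime.exists_mem_centralizer_of_coset (A := zpowers x) (G := F0)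
      (N := D) (hxz.trans hF0E) (hxz.trans hDE) inf_le_left (by
        rw [Nat.card_zpowers]
        exact ((hodd.coprime_dvd_left (card_dvd_of_le hF0F)).symm).coprime_dvd_left
          (orderOf_dvd_of_pow_eq_one (by rw [pow_two]; exact hsqx)))
      (Or.inr (CfsgLib.Coprime.isSolvable_of_le hF0s inf_le_left)) (mul_mem hb hbx) (fun a ha => by
        have hax : a = 1 ∨ a = x := by
          obtain ⟨k, rfl⟩ := mem_zpowers_iff.1 ha
          rcases Int.even_or_odd k with ⟨j, rfl⟩ | ⟨j, rfl⟩
          · left; rw [← two_mul, zpow_mul, zpow_two, hsqx, one_zpow]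
          · right; rw [zpow_add, zpow_mul, zpow_two, hsqx, one_zpow, one_mul, zpow_one]
        rcases hax with rfl | rfl
        · rw [inv_one, mul_one, mul_one, inv_mul_cancel]; exact one_mem D
        · rw [inv_eq_of_mul_eq_one_right hsqx]
          have e0 : (b * (a * b * a))⁻¹ * a * (b * (a * b * a)) * a
              = (a * b * a)⁻¹ * b⁻¹ * (a * b * a) * b * (a * a) := by group
          rw [e0, hsqx, mul_one]
          refine hder ?_
          have e1 : (a * b * a)⁻¹ * b⁻¹ * (a * b * a) * b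
              = ⁅(a * b * a)⁻¹, b⁻¹⁆ := by rw [commutatorElement_def, inv_inv, inv_inv]
          rw [e1]
          exact commutator_mem_commutator (inv_mem (hconjE hx hb)) (inv_mem hb))
    have h1 : c * m ∈ D := hfixed x hx hxc ⟨mul_mem (mul_mem hb hbx) hm.1, hcm⟩
    simpa using mul_mem h1 (inv_mem hm)
  have hindex : ∀ x ∈ E, ∀ y ∈ E, x ∉ centralizer (F0 : Set Γ) → y ∉ centralizer (F0 : Set Γ) →
      x * y ∈ centralizer (F0 : Set Γ) := by
    intro x hx y hy hxc hyc
    by_contra hxy
    refine hDlt.not_ge fun b hb => ?_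
    have hby := hconjE hy hb
    have hd1 := hinvert y hy hyc b hb
    have hd2 := hinvert x hx hxc (y * b * y) hby
    have hd3 := hinvert (x * y) (mul_mem hx hy) hxy b hb
    have e0 : x * y * b * (x * y) = x * (y * b * y) * x := by
      conv_lhs => arg 2; rw [hcomm x hx y hy]
      group
    rw [e0] at hd3
    set u := y * b * y with hu
    set v := x * u * x with hv
    have hvF : v ∈ F0 := hconjE hx hby
    have hcd : ∀ a ∈ F0, ∀ d ∈ D, a * d * a⁻¹ ∈ D := fun a ha d hd =>
      (mem_normalizer_iff.1 (hDn ha) d).1 hd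
    -- `b u`, `u v` and `b v` lie in `D`
    have hbb : b * b ∈ D := by
      have h4 : b * u * (b * v) ∈ D := mul_mem hd1 hd3
      have h5 : ⁅u, b⁆ ∈ D := hder (commutator_mem_commutator hby hb)
      have e1 : b * u * (b * v) = (b * ⁅u, b⁆ * b⁻¹) * (b * b) * (u * v) := by
        rw [commutatorElement_def]; group
      rw [e1] at h4
      exact (mul_mem_cancel_left (hcd b hb _ h5)).1 ((mul_mem_cancel_right hd2).1 h4)
    have hcop : (orderOf b).Coprime 2 := hodd.coprime_dvd_left (Subgroup.orderOf_dvd_natCard F (hF0F hb))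
    obtain ⟨j, hj⟩ := exists_pow_eq_self_of_coprime hcop.symm
    rw [← hj]
    exact pow_mem (by rw [pow_two]; exact hbb) j
  -- an inverted element
  obtain ⟨a, ha, hae⟩ : ∃ a ∈ F0, e * a ≠ a * e := by
    by_contra h
    push Not at h
    exact hec (mem_centralizer_iff.2 fun a ha => (h a ha).symm)
  have hesq := hsq e (hE1 he)
  set a' := a⁻¹ * (e * a * e) with ha'
  have ha'1 : a' ≠ 1 := fun h => hae (by
    rw [ha', inv_mul_eq_one] at h
    conv_rhs => rw [h]
    rw [mul_assoc (e * a), hesq, mul_one])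
  have ha'F : a' ∈ F0 := mul_mem (inv_mem ha) (hconjE (hE1 he) ha)
  have ha'e : e * a' * e = a'⁻¹ := by
    rw [ha', show e * (a⁻¹ * (e * a * e)) * e = e * a⁻¹ * e * a * (e * e) by group, hesq, mul_one,
      mul_inv_rev, inv_inv, mul_inv_rev, mul_inv_rev, inv_eq_of_mul_eq_one_right hesq]
    group
  obtain ⟨r, hr, hrd⟩ := Nat.exists_prime_and_dvd (n := orderOf a') (by rwa [Ne, orderOf_eq_one_iff])
  set q := a' ^ (orderOf a' / r) with hq
  have hqr : orderOf q = r := by
    have hpos := orderOf_pos a'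
    rw [hq, orderOf_pow' _ (Nat.div_pos (Nat.le_of_dvd hpos hrd) hr.pos).ne',
      Nat.gcd_eq_right (Nat.div_dvd_of_dvd hrd), Nat.div_div_self hrd hpos.ne']
  have hqe : e * q * e = q⁻¹ := by
    have hinv : e⁻¹ = e := inv_eq_of_mul_eq_one_right hesq
    rw [hq, ← inv_pow, ← ha'e]
    conv_lhs => arg 2; rw [← hinv]
    conv_rhs => arg 1; arg 2; rw [← hinv]
    rw [conj_pow]
  have hqF : q ∈ F0 := pow_mem ha'F _
  refine ⟨q, hF0F hqF, fun x hx => ?_, ⟨r, hr, fun h2 => ?_, hqr⟩, e, he, hqe⟩
  · by_cases hxc : x ∈ centralizer (F0 : Set Γ)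
    · left
      rw [← mem_centralizer_iff.1 hxc q hqF, mul_assoc, hsq x hx, mul_one]
    · right
      have hxe := hindex x hx e (hE1 he) hxc hec
      have h1 := mem_centralizer_iff.1 hxe q⁻¹ (inv_mem hqF)
      have hxx : x = x * e * e := by rw [mul_assoc, hesq, mul_one]
      calc x * q * x = x * e * e * q * (e * (x * e)) := by
            rw [← hxx, show e * (x * e) = e * e * x by rw [hcomm x hx e (hE1 he)]; group, hesq, one_mul]
        _ = x * e * (e * q * e) * (x * e) := by group
        _ = q⁻¹ * ((x * e) * (x * e)) := by rw [hqe, ← h1]; group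
        _ = q⁻¹ := by rw [hsq _ (mul_mem hx (hE1 he)), mul_one]
  · have := hodd.coprime_dvd_left ((hqr ▸ Subgroup.orderOf_dvd_natCard F (hF0F hqF)) : r ∣ Nat.card F)
    rw [h2] at this
    norm_num at this

/-- Centralising the centraliser of an element of prime order is centralising everything. -/
theorem centralizer_of_fixed {F : Subgroup Γ} (hF : Group.IsNilpotent F) {x q : Γ}
    (hx : x * x = 1) (hxF : x ∈ normalizer (F : Set Γ)) (hodd : (Nat.card F).Coprime 2) (hqF : q ∈ F)
    {r : ℕ} (hr : r.Prime) (hq : orderOf q = r) (hxq : x * q = q * x)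
    (hfix : x ∈ centralizer ((F ⊓ centralizer ({q} : Set Γ) : Subgroup Γ) : Set Γ)) :
    x ∈ centralizer (F : Set Γ) := by
  classical
  have := Fact.mk hr
  set C : Subgroup F := (centralizer ({x} : Set Γ)).subgroupOf F
  have hsuff : C = ⊤ := by
    refine top_le_iff.1 ?_
    have h1 : (⊤ : Subgroup F) ≤ Cfsg.fittingSubgroup F :=
      CfsgLib.Solvable.le_fittingSubgroup inferInstance
        (Group.nilpotent_of_surjective (h := hF) (Subgroup.topEquiv (G := F)).symm.toMonoidHom
          (Subgroup.topEquiv (G := F)).symm.surjective)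
    refine h1.trans ?_
    rw [CfsgLib.Solvable.fittingSubgroup_eq_iSup_pCore]
    refine iSup_le fun t => ?_
    set R := (Cfsg.pCore (t : ℕ) F).map F.subtype with hR
    have ht := Fact.mk t.2
    have hRp : IsPGroup (t : ℕ) R := (CfsgLib.Solvable.pCore_isPGroup (t : ℕ)).map _
    suffices h : x ∈ centralizer (R : Set Γ) by
      intro y hy
      exact mem_subgroupOf.2 (mem_centralizer_singleton_iff.2
        (mem_centralizer_iff.1 h _ (mem_map_of_mem F.subtype hy)))
    by_cases htr : (t : ℕ) = r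
    · have hzR : ∀ {g : Γ}, g ∈ normalizer (F : Set Γ) → g ∈ normalizer (R : Set Γ) := by
        intro g hg
        have hc := CfsgLib.Solvable.pCore_characteristic (t : ℕ) F
        exact CfsgLib.ClassK.normalizer_le_normalizer_map F (Cfsg.pCore (t : ℕ) F) hg
      have hxcop : (Nat.card (zpowers x)).Coprime (t : ℕ) := by
        rw [Nat.card_zpowers]
        refine Nat.Coprime.coprime_dvd_left (orderOf_dvd_of_pow_eq_one (by rw [pow_two]; exact hx)) ?_
        refine hodd.symm.coprime_dvd_right ?_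
        rw [htr, ← hq]
        exact Subgroup.orderOf_dvd_natCard F hqF
      refine zpowers_le.1 (CfsgLib.Comp.le_centralizer_of_centralizes_fixed (P := zpowers q) hRp
        (IsPGroup.of_card (n := 1) (by rw [Nat.card_zpowers, hq, htr, pow_one])) hxcop
        (zpowers_le.2 (hzR (le_normalizer hqF))) (zpowers_le.2 (hzR hxF))
        (zpowers_le.2 (mem_centralizer_iff.2 fun z hz => ?_)) (zpowers_le.2 ?_))
      · obtain ⟨k, rfl⟩ := mem_zpowers_iff.1 hz
        exact ((Commute.zpow_right hxq k).symm).eq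
      · refine centralizer_le ?_ hfix
        exact inf_le_inf (map_subtype_le _)
          (centralizer_le (Set.singleton_subset_iff.2 (mem_zpowers q)))
    · refine centralizer_le ?_ hfix
      rintro _ ⟨y, hy, rfl⟩
      refine ⟨y.2, mem_centralizer_singleton_iff.2 ?_⟩
      have hcop : (orderOf y).Coprime (orderOf (⟨q, hqF⟩ : F)) := by
        obtain ⟨k, hk⟩ := IsPGroup.iff_orderOf.1 (CfsgLib.Solvable.pCore_isPGroup (G := F) (t : ℕ)) ⟨y, hy⟩
        rw [Subgroup.orderOf_mk] at hk
        rw [hk, Subgroup.orderOf_mk, hq]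
        exact ((Nat.coprime_primes t.2 hr).2 htr).pow_left k
      exact congrArg Subtype.val (CfsgLib.OddLocal.commute_of_coprime_of_isNilpotent hF hcop).eq
  refine mem_centralizer_iff.2 fun y hy => ?_
  exact mem_centralizer_singleton_iff.1 (mem_subgroupOf.1 ((hsuff.ge (mem_top ⟨y, hy⟩))))

end CfsgLib.InvolConj
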