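import Cfsg.Agent.Lib.InvolConj.Dihedral

/-!
# A system of commuting elements inverted one at a time
-/

set_option autoImplicit false

namespace CfsgLib.InvolConj

open Subgroup

universe u

variable {Γ : Type u} [Group Γ] [Finite Γ]

/-- `k` commuting elements of `F` of prime order, normalised by `E`, and elements of `E1` each
inverting one of them and centralising the others. -/
structure DSys (F E E1 : Subgroup Γ) (k : ℕ) (q e : Fin k → Γ) : Prop where
  memF : ∀ i, q i ∈ F
  mem1 : ∀ i, e i ∈ E1
  eigen : ∀ i, ∀ x ∈ E, x * q i * x = q i ∨ x * q i * x = (q i)⁻¹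
  prime : ∀ i, ∃ r : ℕ, r.Prime ∧ r ≠ 2 ∧ orderOf (q i) = r
  comm : ∀ i j, q i * q j = q j * q i
  inverts : ∀ i, e i * q i * e i = (q i)⁻¹
  cen : ∀ i j, i ≠ j → e i * q j * e i = q j

theorem ne_inv_of_odd {q : Γ} {r : ℕ} (hr : r.Prime) (h2 : r ≠ 2) (hq : orderOf q = r) : q ≠ q⁻¹ := by
  intro h
  have h1 : q ^ 2 = 1 := by rw [pow_two]; conv_lhs => arg 2; rw [h]
                            exact mul_inv_cancel q
  have h3 := orderOf_dvd_of_pow_eq_one h1
  rw [hq] at h3
  exact h2 ((Nat.prime_dvd_prime_iff_eq hr Nat.prime_two).1 h3)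

theorem exists_dsys_aux : ∀ (n : ℕ) (F E E1 : Subgroup Γ), Group.IsNilpotent F →
    (Nat.card F).Coprime 2 → E ≤ normalizer (F : Set Γ) → (∀ e ∈ E, e * e = 1) →
    (∀ a ∈ E, ∀ b ∈ E, a * b = b * a) → E1 ≤ E → (∀ e ∈ E1, e ∈ centralizer (F : Set Γ) → e = 1) →
    Nat.card E1 ≤ n → ∃ (k : ℕ) (q e : Fin k → Γ), Nat.card E1 = 2 ^ k ∧ DSys F E E1 k q e := by
  classical
  intro n
  induction n with
  | zero => intro F E E1 _ _ _ _ _ _ _ h; exact absurd h (Nat.card_pos).not_ge
  | succ n ih =>
    intro F E E1 hF hodd hEF hsq hcomm hE1 hfaith hn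
    rcases eq_or_ne E1 ⊥ with rfl | hne
    · exact ⟨0, Fin.elim0, Fin.elim0, by rw [Subgroup.card_bot, pow_zero],
        ⟨fun i => i.elim0, fun i => i.elim0, fun i => i.elim0, fun i => i.elim0, fun i => i.elim0,
          fun i => i.elim0, fun i => i.elim0⟩⟩
    obtain ⟨e', he', he'1⟩ := (Subgroup.bot_or_exists_ne_one E1).resolve_left hne
    obtain ⟨q, hqF, heig, ⟨r, hr, hr2, hqr⟩, e, he, heq⟩ :=
      exists_eigen hF hodd hEF hsq hcomm hE1 ⟨e', he', fun h => he'1 (hfaith e' he' h)⟩
    have hqi := ne_inv_of_odd hr hr2 hqr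
    have hiff : ∀ x ∈ E, x * q * x = q ↔ x * q = q * x := fun x hx => by
      constructor
      · intro h
        conv_rhs => rw [← h]
        rw [mul_assoc (x * q), hsq x hx, mul_one]
      · intro h
        rw [h, mul_assoc, hsq x hx, mul_one]
    set K := E1 ⊓ centralizer ({q} : Set Γ) with hK
    have hKmem : ∀ x, x ∈ K ↔ x ∈ E1 ∧ x * q = q * x := fun x => by
      rw [hK, mem_inf, mem_centralizer_singleton_iff]
    have hcard : Nat.card E1 = 2 * Nat.card K := by
      have hesq := hsq e (hE1 he)
      have hmemor : ∀ x ∈ E1, x ∈ K ∨ e * x ∈ K := fun x hx => by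
        rcases heig x (hE1 hx) with h | h
        · exact Or.inl ((hKmem x).2 ⟨hx, (hiff x (hE1 hx)).1 h⟩)
        · refine Or.inr ((hKmem _).2 ⟨mul_mem he hx, (hiff _ (mul_mem (hE1 he) (hE1 hx))).1 ?_⟩)
          rw [show e * x * q * (e * x) = e * (x * q * x) * e by
            rw [hcomm e (hE1 he) x (hE1 hx)]; conv_lhs => arg 1; arg 1; rw [hcomm x (hE1 hx) e (hE1 he)]
            group, h, show e * q⁻¹ * e = (e⁻¹ * q * e⁻¹)⁻¹ by group,
            inv_eq_of_mul_eq_one_right hesq, heq, inv_inv]
      have hnot : ∀ x ∈ K, e * x ∉ K := fun x hx hex => by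
        have h := mul_mem hex (inv_mem hx)
        rw [mul_inv_cancel_right] at h
        exact hqi (((hiff e (hE1 he)).2 ((hKmem e).1 h).2).symm.trans heq)
      rw [two_mul, ← Nat.card_sum]
      refine (Nat.card_congr (Equiv.ofBijective (fun z : K ⊕ K => (Sum.elim
        (fun x : K => (⟨x, ((hKmem _).1 x.2).1⟩ : E1))
        (fun x : K => ⟨e * x, mul_mem he ((hKmem _).1 x.2).1⟩) z : E1)) ⟨?_, ?_⟩)).symm
      · rintro (a | a) (b | b) h <;> simp only [Sum.elim_inl, Sum.elim_inr, Subtype.mk.injEq] at h
        · exact congrArg Sum.inl (Subtype.ext h)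
        · exact absurd (h ▸ a.2) (hnot b b.2)
        · exact absurd (h ▸ b.2) (hnot a a.2)
        · exact congrArg Sum.inr (Subtype.ext (mul_left_cancel h))
      · intro x
        rcases hmemor x x.2 with h | h
        · exact ⟨Sum.inl ⟨x, h⟩, rfl⟩
        · refine ⟨Sum.inr ⟨e * x, h⟩, Subtype.ext ?_⟩
          show e * (e * (x : Γ)) = x
          rw [← mul_assoc, hesq, one_mul]
    set F2 := F ⊓ centralizer ({q} : Set Γ) with hF2
    have hF2n : Group.IsNilpotent F2 := by
      have := hF
      exact Group.nilpotent_of_surjective (h := Subgroup.isNilpotent (F2.subgroupOf F))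
        (Subgroup.subgroupOfEquivOfLe (inf_le_left : F2 ≤ F)).toMonoidHom
        (Subgroup.subgroupOfEquivOfLe (inf_le_left : F2 ≤ F)).surjective
    have hEF2 : E ≤ normalizer (F2 : Set Γ) := by
      intro x hx
      refine inf_normalizer_le_normalizer_inf ⟨hEF hx, mem_normalizer_iff.2 fun a => ?_⟩
      have hxi : x⁻¹ = x := inv_eq_of_mul_eq_one_right (hsq x hx)
      rw [mem_centralizer_singleton_iff, mem_centralizer_singleton_iff, hxi]
      have hxx := hsq x hx
      have key : ∀ b : Γ, b * q = q * b → x * b * x * q = q * (x * b * x) := by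
        intro b hb
        rcases heig x hx with h | h
        · have hc := (hiff x hx).1 h
          calc x * b * x * q = x * b * (x * q) := by group
            _ = x * (b * q) * x := by rw [hc]; group
            _ = (x * q) * b * x := by rw [hb]; group
            _ = q * (x * b * x) := by rw [hc]; group
        · have hxq : x * q = q⁻¹ * x := by rw [← h, mul_assoc (x * q), hxx, mul_one]
          have hxq' : x * q⁻¹ = q * x := by
            rw [← h, ← mul_assoc, ← mul_assoc, hxx, one_mul]
          have hb' : b * q⁻¹ = q⁻¹ * b := (Commute.inv_right hb).eq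
          calc x * b * x * q = x * b * (x * q) := by group
            _ = x * (b * q⁻¹) * x := by rw [hxq]; group
            _ = (x * q⁻¹) * b * x := by rw [hb']; group
            _ = q * (x * b * x) := by rw [hxq']; group
      refine ⟨key a, fun h => ?_⟩
      have h2 := key _ h
      rwa [show x * (x * a * x) * x = (x * x) * a * (x * x) by group, hxx, one_mul, mul_one] at h2
    have hKE : K ≤ E := inf_le_left.trans hE1
    have hfaith2 : ∀ x ∈ K, x ∈ centralizer (F2 : Set Γ) → x = 1 := fun x hx hxc => hfaith x hx.1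
      (centralizer_of_fixed hF (hsq x (hE1 hx.1)) (hEF (hE1 hx.1)) hodd hqF hr hqr ((hKmem x).1 hx).2 hxc)
    have hKn : Nat.card K ≤ n := by
      have := Nat.card_pos (α := K)
      omega
    obtain ⟨k, Q', E', hk, hs⟩ := ih F2 E K hF2n (hodd.coprime_dvd_left (card_dvd_of_le inf_le_left))
      hEF2 hsq hcomm hKE hfaith2 hKn
    -- correct `e` so that it centralises the other elements
    have hcorr : ∀ s : Finset (Fin k), ∃ e0 ∈ E1, e0 * q * e0 = q⁻¹ ∧ ∀ l ∈ s, e0 * Q' l * e0 = Q' l := by
      intro s
      induction s using Finset.induction_on with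
      | empty => exact ⟨e, he, heq, fun l hl => absurd hl (Finset.notMem_empty l)⟩
      | insert j s hj ihs =>
        obtain ⟨e0, he0, hq0, hl0⟩ := ihs
        rcases hs.eigen j e0 (hE1 he0) with h | h
        · refine ⟨e0, he0, hq0, fun l hl => ?_⟩
          rcases Finset.mem_insert.1 hl with rfl | hl
          · exact h
          · exact hl0 l hl
        · have hjK := hs.mem1 j
          have hj1 : E' j ∈ E1 := hjK.1
          refine ⟨e0 * E' j, mul_mem he0 hj1, ?_, fun l hl => ?_⟩
          · have hc : E' j * q * E' j = q := (hiff _ (hE1 hj1)).2 ((hKmem _).1 hjK).2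
            calc e0 * E' j * q * (e0 * E' j) = e0 * E' j * q * (E' j * e0) := by
                  rw [hcomm e0 (hE1 he0) (E' j) (hE1 hj1)]
              _ = e0 * (E' j * q * E' j) * e0 := by group
              _ = q⁻¹ := by rw [hc, hq0]
          · have e1 : e0 * E' j * Q' l * (e0 * E' j) = e0 * (E' j * Q' l * E' j) * e0 := by
              conv_lhs => arg 2; rw [hcomm e0 (hE1 he0) (E' j) (hE1 hj1)]
              group
            rw [e1]
            rcases Finset.mem_insert.1 hl with rfl | hl
            · rw [hs.inverts l, show e0 * (Q' l)⁻¹ * e0 = (e0⁻¹ * Q' l * e0⁻¹)⁻¹ by group,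
                inv_eq_of_mul_eq_one_right (hsq e0 (hE1 he0)), h, inv_inv]
            · rw [hs.cen j l (fun e => hj (e ▸ hl)), hl0 l hl]
    obtain ⟨e0, he0, hq0, hl0⟩ := hcorr Finset.univ
    refine ⟨k + 1, Fin.cons q Q', Fin.cons e0 E', by rw [hcard, hk, pow_succ'], ?_⟩
    have hqQ : ∀ l, q * Q' l = Q' l * q := fun l =>
      (mem_centralizer_singleton_iff.1 (hs.memF l).2).symm
    refine
      { memF := fun i => Fin.cases ?_ (fun l => ?_) i
        mem1 := fun i => Fin.cases ?_ (fun l => ?_) i
        eigen := fun i => Fin.cases ?_ (fun l => ?_) i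
        prime := fun i => Fin.cases ?_ (fun l => ?_) i
        comm := fun i j => Fin.cases (Fin.cases ?_ (fun l => ?_) j) (fun l => Fin.cases ?_ (fun m => ?_) j) i
        inverts := fun i => Fin.cases ?_ (fun l => ?_) i
        cen := fun i j => Fin.cases (Fin.cases ?_ (fun l => ?_) j) (fun l => Fin.cases ?_ (fun m => ?_) j) i }
    all_goals simp only [Fin.cons_zero, Fin.cons_succ]
    all_goals first
      | exact hqF
      | exact (hs.memF _).1
      | exact he0
      | exact (hs.mem1 _).1
      | exact heig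
      | exact hs.eigen _
      | exact ⟨r, hr, hr2, hqr⟩
      | exact hs.prime _
      | exact hqQ _
      | exact (hqQ _).symm
      | exact hs.comm _ _
      | exact hq0
      | exact hs.inverts _
      | exact fun h => absurd rfl h
      | exact fun _ => hl0 _ (Finset.mem_univ _)
      | exact fun _ => (hiff _ (hE1 (hs.mem1 _).1)).2 ((hKmem _).1 (hs.mem1 _)).2
      | exact fun h => hs.cen _ _ fun e => h (congrArg Fin.succ e)

/-- An elementary abelian 2-group of order `2 ^ k` faithful on a nilpotent group of odd order gives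
`k` commuting elements, each inverted alone. -/
theorem exists_dsys {F E : Subgroup Γ} (hF : Group.IsNilpotent F) (hodd : (Nat.card F).Coprime 2)
    (hEF : E ≤ normalizer (F : Set Γ)) (hsq : ∀ e ∈ E, e * e = 1)
    (hfaith : ∀ e ∈ E, e ∈ centralizer (F : Set Γ) → e = 1) :
    ∃ (k : ℕ) (q e : Fin k → Γ), Nat.card E = 2 ^ k ∧ DSys F E E k q e :=
  exists_dsys_aux _ F E E hF hodd hEF hsq (fun a ha b hb => by
    have h := hsq _ (mul_mem ha hb)
    calc a * b = a * (a * b * (a * b)) * b := by rw [h, mul_one]
      _ = (a * a) * (b * a) * (b * b) := by group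
      _ = b * a := by rw [hsq a ha, hsq b hb, one_mul, mul_one]) le_rfl hfaith le_rfl

end CfsgLib.InvolConj
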