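import Cfsg.Agent.Lib.InvolConj.Main
import Cfsg.Agent.Lib.InvolConj.Homocyclic
import Cfsg.Agent.Lib.PLength.Series

/-!
# Solvable groups whose involutions are conjugate
-/

set_option autoImplicit false

namespace CfsgLib.InvolConj

open Subgroup

universe u

variable {G : Type u} [Group G] [Finite G] [Group.IsSolvable G]

/-- An involution modulo the odd core comes from an involution. -/
theorem exists_involution_lift {x : G ⧸ Cfsg.pPrimeCore 2 G} [(Cfsg.pPrimeCore 2 G).Normal]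
    (hx : x * x = 1) (hx1 : x ≠ 1) :
    ∃ y : G, (y : G ⧸ Cfsg.pPrimeCore 2 G) = x ∧ y ≠ 1 ∧ y * y = 1 := by
  have := Fact.mk Nat.prime_two
  obtain ⟨g, rfl⟩ := QuotientGroup.mk_surjective x
  set n := Nat.card (Cfsg.pPrimeCore 2 G)
  have hn : n.Coprime 2 := CfsgLib.Solvable.pPrimeCore_coprime 2
  have hgg : g * g ∈ Cfsg.pPrimeCore 2 G := (QuotientGroup.eq_one_iff (g * g)).1 hx
  have e : ((g ^ n : G) : G ⧸ Cfsg.pPrimeCore 2 G) = (g : G ⧸ Cfsg.pPrimeCore 2 G) := by
    obtain ⟨c, hc⟩ := Nat.coprime_two_right.1 hn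
    rw [QuotientGroup.mk_pow, hc, pow_succ, pow_mul, pow_two, hx, one_pow, one_mul]
  refine ⟨g ^ n, e, fun h1 => hx1 ?_, ?_⟩
  · rw [← e, h1]; rfl
  · rw [← (Commute.refl g).mul_pow]
    exact congrArg Subtype.val (pow_card_eq_one' (x := (⟨g * g, hgg⟩ : Cfsg.pPrimeCore 2 G)))

/-- A solvable group with at least two involutions, all conjugate: its 2-length is one and the
normaliser of a Sylow 2-subgroup is transitive on the involutions. -/
theorem pLengthLE_and_fusion (S : Sylow 2 G)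
    (htwo : ∃ x y : G, x ∈ (S : Subgroup G) ∧ y ∈ (S : Subgroup G) ∧ x ≠ y ∧ x ≠ 1 ∧ x * x = 1 ∧
      y ≠ 1 ∧ y * y = 1)
    (hconj : ∀ x y : G, x ≠ 1 → x * x = 1 → y ≠ 1 → y * y = 1 → IsConj x y) :
    Cfsg.PLengthLE 2 1 G ∧ ∀ x y : G, x ∈ (S : Subgroup G) → y ∈ (S : Subgroup G) → x ≠ 1 → x * x = 1 →
      y ≠ 1 → y * y = 1 → ∃ n ∈ normalizer ((S : Subgroup G) : Set G), n * x * n⁻¹ = y := by
  classical
  have := Fact.mk Nat.prime_two
  set O := Cfsg.pPrimeCore 2 G with hO
  have hOn : O.Normal := CfsgLib.Solvable.pPrimeCore_normal 2 G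
  have hOcop : (Nat.card O).Coprime 2 := CfsgLib.Solvable.pPrimeCore_coprime 2
  set π := QuotientGroup.mk' O with hπ
  have hSO : ∀ z ∈ (S : Subgroup G), z ∈ O → z = 1 := by
    intro z hz hzO
    obtain ⟨k, hk⟩ := S.2 ⟨z, hz⟩
    exact orderOf_eq_one_iff.1 (Nat.eq_one_of_dvd_coprimes (hOcop.pow_right k)
      (Subgroup.orderOf_dvd_natCard O hzO) (orderOf_dvd_of_pow_eq_one (congrArg Subtype.val hk)))
  have hbar : OneClass (G ⧸ O) :=
    { solvable := Group.isSolvable_of_surjective (QuotientGroup.mk'_surjective O)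
      core := CfsgLib.Solvable.pPrimeCore_quotient_eq_bot 2
      two := by
        obtain ⟨x, y, hx, hy, hxy, hx1, hxx, hy1, hyy⟩ := htwo
        refine ⟨π x, π y, fun e => hxy ?_, fun e => hx1 (hSO x hx ((QuotientGroup.eq_one_iff x).1 e)),
          by rw [← map_mul, hxx, map_one], fun e => hy1 (hSO y hy ((QuotientGroup.eq_one_iff y).1 e)),
          by rw [← map_mul, hyy, map_one]⟩
        have h1 := hSO _ (mul_mem (inv_mem hx) hy) (QuotientGroup.eq.1 e)
        exact inv_mul_eq_one.1 h1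
      conj := fun a b ha1 ha hb1 hb => by
        obtain ⟨x, rfl, hx1, hxx⟩ := exists_involution_lift ha ha1
        obtain ⟨y, rfl, hy1, hyy⟩ := exists_involution_lift hb hb1
        obtain ⟨c, hc⟩ := isConj_iff.1 (hconj x y hx1 hxx hy1 hyy)
        exact ⟨π c, by rw [← hc]; rfl⟩ }
  set P := Cfsg.pCore 2 (G ⧸ O) with hP
  have hPn : P.Normal := CfsgLib.Solvable.pCore_normal 2 _
  set M2 := P.comap π with hM2
  have hM2n : M2.Normal := hPn.comap π
  have hsyl : (S.mapSurjective (QuotientGroup.mk'_surjective O) : Subgroup (G ⧸ O)) = P :=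
    le_antisymm (hbar.sylow_le_pCore _) (CfsgLib.Solvable.pCore_le_sylow _)
  rw [Sylow.coe_mapSurjective] at hsyl
  have hM2eq : M2 = (S : Subgroup G) ⊔ O := by
    rw [hM2, ← hsyl, comap_map_eq, QuotientGroup.ker_mk']
  refine ⟨CfsgLib.PLength.pLengthLE_iff.2 ?_, fun x y hx hy hx1 hxx hy1 hyy => ?_⟩
  · refine ⟨fun i => match i with | 0 => ⊥ | 1 => O | 2 => M2 | _ + 3 => ⊤,
      { zero := rfl
        last := rfl
        normal := fun i => match i with
          | 0 => (inferInstance : (⊥ : Subgroup G).Normal)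
          | 1 => hOn
          | 2 => hM2n
          | _ + 3 => (inferInstance : (⊤ : Subgroup G).Normal)
        mono := monotone_nat_of_le_succ fun i => match i with
          | 0 => bot_le
          | 1 => hM2eq ▸ le_sup_right
          | 2 => le_top
          | _ + 3 => le_rfl
        step := fun i => match i with
          | 0 => ?_
          | 1 => ?_
          | 2 => ?_
          | j + 3 => ?_ }⟩
    · show CfsgLib.PLength.StepType 2 0 ((⊥ : Subgroup G).relIndex O)
      rw [relIndex_bot_left, CfsgLib.PLength.stepType_even_iff Nat.prime_two (by decide)]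
      exact hOcop
    · show CfsgLib.PLength.StepType 2 1 (O.relIndex M2)
      rw [hM2, CfsgLib.PLength.relIndex_comap_mk',
        CfsgLib.PLength.stepType_odd_iff Nat.prime_two (by decide) Nat.card_pos.ne']
      exact IsPGroup.iff_card.1 (CfsgLib.Solvable.pCore_isPGroup 2)
    · show CfsgLib.PLength.StepType 2 2 (M2.relIndex ⊤)
      rw [relIndex_top_right, CfsgLib.PLength.stepType_even_iff Nat.prime_two (by decide)]
      refine Nat.Coprime.coprime_dvd_left ?_
        (Nat.coprime_comm.1 (Nat.prime_two.coprime_iff_not_dvd.2 S.not_dvd_index))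
      exact index_dvd_of_le (hM2eq ▸ le_sup_left)
    · show CfsgLib.PLength.StepType 2 (j + 3) ((⊤ : Subgroup G).relIndex ⊤)
      rw [relIndex_self]
      exact CfsgLib.PLength.stepType_one _ _
  · have hfrat := Sylow.normalizer_sup_eq_top (S.subtype (hM2eq ▸ le_sup_left : (S : Subgroup G) ≤ M2))
    rw [Sylow.coe_subtype, subgroupOf_map_subtype, inf_eq_left.2 (hM2eq ▸ le_sup_left : _ ≤ M2), hM2eq,
      ← sup_assoc, sup_eq_left.2 (le_normalizer : (S : Subgroup G) ≤ _)] at hfrat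
    obtain ⟨g, hg⟩ := isConj_iff.1 (hconj x y hx1 hxx hy1 hyy)
    obtain ⟨n, hn, o, ho, rfl⟩ := mem_sup_of_normal_right.1 (hfrat ▸ mem_top g)
    refine ⟨n, hn, ?_⟩
    have hnx : n * x * n⁻¹ ∈ (S : Subgroup G) := (mem_normalizer_iff.1 hn x).1 hx
    have h1 : (n * x * n⁻¹)⁻¹ * y ∈ O := by
      refine QuotientGroup.eq.1 ?_
      rw [← hg]
      simp only [QuotientGroup.mk_mul, QuotientGroup.mk_inv, (QuotientGroup.eq_one_iff o).2 ho, mul_one]
    exact inv_mul_eq_one.1 (hSO _ (mul_mem (inv_mem hnx) hy) h1)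

omit [Group.IsSolvable G] in
theorem exists_aut_group (S : Subgroup G) (hG : Group.IsSolvable G)
    (htrans : ∀ x y : G, x ∈ S → y ∈ S → x ≠ 1 → x * x = 1 → y ≠ 1 → y * y = 1 →
      ∃ n ∈ normalizer (S : Set G), n * x * n⁻¹ = y) :
    ∃ Y : Subgroup (MulAut S), Group.IsSolvable Y ∧ ∀ x y : S, x ≠ 1 → x ^ 2 = 1 → y ≠ 1 → y ^ 2 = 1 →
      ∃ a ∈ Y, a x = y := by
  let φ : normalizer (S : Set G) →* MulAut S :=
    { toFun := fun n =>
        { toFun := fun x => ⟨(n : G) * x * (n : G)⁻¹, (mem_normalizer_iff.1 n.2 x).1 x.2⟩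
          invFun := fun x => ⟨(n : G)⁻¹ * x * n, (mem_normalizer_iff''.1 n.2 x).1 x.2⟩
          left_inv := fun x => Subtype.ext (by
            show (n : G)⁻¹ * ((n : G) * x * (n : G)⁻¹) * n = x; group)
          right_inv := fun x => Subtype.ext (by
            show (n : G) * ((n : G)⁻¹ * x * n) * (n : G)⁻¹ = x; group)
          map_mul' := fun x y => Subtype.ext (by
            show (n : G) * (x * y) * (n : G)⁻¹ = (n : G) * x * (n : G)⁻¹ * ((n : G) * y * (n : G)⁻¹)
            group) }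
      map_one' := MulEquiv.ext fun x => Subtype.ext (by
        show (1 : G) * x * (1 : G)⁻¹ = x; group)
      map_mul' := fun a b => MulEquiv.ext fun x => Subtype.ext (by
        show (a * b : G) * x * (a * b : G)⁻¹ = a * (b * x * (b : G)⁻¹) * (a : G)⁻¹; group) }
  refine ⟨φ.range, Group.isSolvable_of_surjective φ.rangeRestrict_surjective, fun x y hx1 hx hy1 hy => ?_⟩
  have hv : ∀ z : S, z ^ 2 = 1 → (z : G) * z = 1 := fun z hz => by
    rw [pow_two] at hz; exact congrArg Subtype.val hz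
  obtain ⟨n, hn, hnxy⟩ := htrans x y x.2 y.2 (fun e => hx1 (Subtype.ext e)) (hv x hx)
    (fun e => hy1 (Subtype.ext e)) (hv y hy)
  exact ⟨φ ⟨n, hn⟩, ⟨_, rfl⟩, Subtype.ext hnxy⟩

end CfsgLib.InvolConj
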