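import Mathlib

/-!
# Two commuting fixed-point-free automorphisms, each inverted alone by another automorphism
-/

set_option autoImplicit false

namespace CfsgLib.InvolConj

universe u

variable {X : Type u} [AddCommGroup X]

/-- The automorphisms, as units of the ring of endomorphisms. -/
abbrev Auto (X : Type u) [AddCommGroup X] : Type u := (AddMonoid.End X)ˣ

/-- The endomorphism of an automorphism. -/
abbrev endo (g : Auto X) : AddMonoid.End X := (g : AddMonoid.End X)

theorem endo_mul (g h : Auto X) : endo (g * h) = endo g * endo h := rfl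

theorem endo_one : endo (1 : Auto X) = 1 := rfl

theorem endo_inv_apply (g : Auto X) (x : X) : endo g⁻¹ (endo g x) = x :=
  DFunLike.congr_fun g.inv_mul x

theorem endo_apply_inv (g : Auto X) (x : X) : endo g (endo g⁻¹ x) = x :=
  DFunLike.congr_fun g.mul_inv x

theorem endo_injective (g : Auto X) : Function.Injective (endo g) :=
  Function.LeftInverse.injective (endo_inv_apply g)

theorem endo_pow (g : Auto X) (n : ℕ) : endo (g ^ n) = endo g ^ n := by
  induction n with
  | zero => rw [pow_zero, pow_zero, endo_one]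
  | succ n ih => rw [pow_succ, pow_succ, endo_mul, ih]

/-- A finite field has at most one automorphism of order two. -/
theorem ringEquiv_eq_of_sq {k : Type u} [Field k] [Finite k] [CharP k 2] (σ τ : k ≃+* k)
    (hσ : ∀ x, σ (σ x) = x) (hτ : ∀ x, τ (τ x) = x) {x y : k} (hx : σ x ≠ x) (hy : τ y ≠ y)
    {z : k} (hz : σ z ≠ τ z) : False := by
  classical
  let _ : Algebra (ZMod 2) k := ZMod.algebra k 2
  have hf : ∀ (f : k ≃+* k) (r : ZMod 2), f (algebraMap (ZMod 2) k r) = algebraMap (ZMod 2) k r :=
    fun f r => RingHom.congr_fun (Subsingleton.elim ((f : k →+* k).comp (algebraMap (ZMod 2) k))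
      (algebraMap (ZMod 2) k)) r
  let σ' : Gal(k/ZMod 2) := AlgEquiv.ofRingEquiv (f := σ) (hf σ)
  let τ' : Gal(k/ZMod 2) := AlgEquiv.ofRingEquiv (f := τ) (hf τ)
  have : Finite Gal(k/ZMod 2) := Finite.of_injective (fun g : Gal(k/ZMod 2) => (g : k → k))
    DFunLike.coe_injective
  let _ := Fintype.ofFinite Gal(k/ZMod 2)
  have h1 : σ' ^ 2 = 1 := AlgEquiv.ext fun a => by rw [pow_two]; exact hσ a
  have h2 : τ' ^ 2 = 1 := AlgEquiv.ext fun a => by rw [pow_two]; exact hτ a
  have e1 : σ' ≠ 1 := fun e => hx (AlgEquiv.congr_fun e x)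
  have e2 : τ' ≠ 1 := fun e => hy (AlgEquiv.congr_fun e y)
  have e3 : σ' ≠ τ' := fun e => hz (AlgEquiv.congr_fun e z)
  have hle := IsCyclic.card_pow_eq_one_le (α := Gal(k/ZMod 2)) (n := 2) two_pos
  have h3 : ({1, σ', τ'} : Finset Gal(k/ZMod 2)) ⊆
      Finset.univ.filter fun a => a ^ 2 = 1 := by
    intro a ha
    simp only [Finset.mem_insert, Finset.mem_singleton] at ha
    rcases ha with rfl | rfl | rfl <;> simp [h1, h2]
  have h4 := Finset.card_le_card h3
  rw [Finset.card_insert_of_notMem (by simp [e1.symm, e2.symm]),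
    Finset.card_insert_of_notMem (by simp [e3]), Finset.card_singleton] at h4
  omega

variable [Finite X]

/-- Two commuting automorphisms of odd order without fixed points, each inverted by an automorphism
centralising the other one, give a subgroup invariant under one of the inverting automorphisms and
independent of one of its conjugates. -/
theorem exists_split (h2 : ∀ x : X, x + x = 0) [Nontrivial X] {n : ℕ} (hn : Odd n) {q p e d : Auto X}
    (hqn : q ^ n = 1) (hpn : p ^ n = 1) (hqp : q * p = p * q) (hq : ∀ x, endo q x = x → x = 0)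
    (hp : ∀ x, endo p x = x → x = 0) (he1 : e * q = q⁻¹ * e) (he2 : e * p = p * e)
    (hd1 : d * p = p⁻¹ * d) (hd2 : d * q = q * d) :
    ∃ Y : AddSubgroup X, Y ≠ ⊥ ∧
      (∀ g : Auto X, g * q = q * g → g * p = p * g → ∀ y ∈ Y, endo g y ∈ Y) ∧
      ((((∀ y ∈ Y, endo e y ∈ Y) ∨ (∀ y ∈ Y, endo d y ∈ Y) ∨ ∀ y ∈ Y, endo (e * d) y ∈ Y) ∧
        Nat.card Y ^ 2 ≤ Nat.card X) ∨ Nat.card Y ^ 4 ≤ Nat.card X) := by
  classical
  set s : Set (AddMonoid.End X) := {endo q, endo p}
  have hc : ∀ a ∈ s, ∀ b ∈ s, a * b = b * a := by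
    rintro a (rfl | rfl) b (rfl | rfl) <;>
      simp only [← endo_mul, hqp]
  set R := Subring.closure s
  let _ : CommRing R := Subring.closureCommRingOfComm hc
  let q' : R := ⟨endo q, Subring.subset_closure (Or.inl rfl)⟩
  let p' : R := ⟨endo p, Subring.subset_closure (Or.inr rfl)⟩
  have hqn' : q' ^ n = 1 := Subtype.ext (by
    rw [SubmonoidClass.coe_pow]; show endo q ^ n = _; rw [← endo_pow, hqn]; rfl)
  have hpn' : p' ^ n = 1 := Subtype.ext (by
    rw [SubmonoidClass.coe_pow]; show endo p ^ n = _; rw [← endo_pow, hpn]; rfl)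
  have htwo : ∀ a : R, a + a = 0 := fun a => Subtype.ext (AddMonoidHom.ext fun x => h2 _)
  -- all elements are roots of `T ^ (2 ^ s) = T`
  set s' := Nat.totient n
  have hn0 : 0 < n := hn.pos
  have hs1 : 1 ≤ s' := Nat.totient_pos.2 hn0
  have hexp : ∀ a : R, a ^ 2 ^ s' = a := by
    have : Nontrivial R := ⟨⟨0, 1, fun h => by
      obtain ⟨x, hx⟩ := exists_ne (0 : X)
      exact hx (DFunLike.congr_fun (congrArg Subtype.val h) x).symm⟩⟩
    have : CharP R 2 := CharTwo.of_one_ne_zero_of_two_eq_zero one_ne_zero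
      (by rw [← one_add_one_eq_two]; exact htwo 1)
    have hpow : ∀ a : R, a ^ n = 1 → a ^ 2 ^ s' = a := fun a ha => by
      have h := Nat.ModEq.pow_totient (Nat.coprime_two_left.2 hn)
      rw [show a ^ 2 ^ s' = a ^ (2 ^ s' % n) * (a ^ n) ^ (2 ^ s' / n) by
        rw [← pow_mul, ← pow_add, Nat.mod_add_div], ha, one_pow, mul_one, h,
        ← pow_eq_pow_mod 1 ha, pow_one]
    rintro ⟨a, ha⟩
    induction ha using Subring.closure_induction with
    | mem x hx => rcases hx with rfl | rfl
                  · exact hpow q' hqn'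
                  · exact hpow p' hpn'
    | zero => exact zero_pow (pow_pos two_pos s').ne'
    | one => exact one_pow _
    | add x y hx hy h1 h2 =>
      show ((⟨x, hx⟩ : R) + ⟨y, hy⟩) ^ 2 ^ s' = ⟨x, hx⟩ + ⟨y, hy⟩
      rw [add_pow_char_pow, h1, h2]
    | neg x hx h1 =>
      show (-(⟨x, hx⟩ : R)) ^ 2 ^ s' = -⟨x, hx⟩
      rw [CharTwo.neg_eq, h1]
    | mul x y hx hy h1 h2 =>
      show ((⟨x, hx⟩ : R) * ⟨y, hy⟩) ^ 2 ^ s' = ⟨x, hx⟩ * ⟨y, hy⟩
      rw [mul_pow, h1, h2]
  -- a maximal ideal and its idempotent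
  have : Finite (AddMonoid.End X) := Finite.of_injective
    (fun f : AddMonoid.End X => (f : X → X)) DFunLike.coe_injective
  have : Nontrivial R := ⟨⟨0, 1, fun h => by
    obtain ⟨x, hx⟩ := exists_ne (0 : X)
    exact hx (DFunLike.congr_fun (congrArg Subtype.val h) x).symm⟩⟩
  obtain ⟨M, hM⟩ := Ideal.exists_maximal R
  set N := 2 ^ s' - 1 with hN
  have hN1 : 1 ≤ N := by
    have : 2 ^ 1 ≤ 2 ^ s' := Nat.pow_le_pow_right two_pos hs1
    omega
  have hNm : ∀ m : R, m ^ N * m = m := fun m => by
    rw [← pow_succ, hN, Nat.sub_add_cancel (by omega), hexp]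
  let _ := Fintype.ofFinite R
  set f : R := ∏ m ∈ Finset.univ.filter (· ∈ M), (1 - m ^ N) with hf
  have hfM : f ∉ M := fun h => by
    obtain ⟨m, hm, hmem⟩ := (hM.isPrime.prod_mem_iff).1 h
    rw [Finset.mem_filter] at hm
    exact hM.ne_top ((Ideal.eq_top_iff_one M).2
      (by simpa using M.add_mem hmem (M.pow_mem_of_mem hm.2 N hN1)))
  have hfm : ∀ m ∈ M, f * m = 0 := fun m hm => by
    rw [hf, ← Finset.prod_erase_mul _ _ (Finset.mem_filter.2 ⟨Finset.mem_univ m, hm⟩), mul_assoc,
      sub_mul, one_mul, hNm, sub_self, mul_zero]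
  have hff : f * f = f := by
    have h1 : f * (1 - f ^ N) = 0 := by rw [mul_sub, mul_one, mul_comm, hNm, sub_self]
    have hmem : 1 - f ∈ M := by
      rcases hM.isPrime.mem_or_mem (show (1 - f ^ N) * f ∈ M by rw [mul_comm, h1]; exact M.zero_mem)
        with h | h
      · -- `f ≡ 1` modulo `M`
        have h3 : f - f ^ N ∈ M := by
          have : ∀ m ∈ Finset.univ.filter (· ∈ M), (1 - m ^ N) - 1 ∈ M := fun m hm => by
            rw [sub_sub_cancel_left]
            exact M.neg_mem (M.pow_mem_of_mem (Finset.mem_filter.1 hm).2 N hN1)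
          have h4 : f - 1 ∈ M := by
            rw [← Ideal.Quotient.eq_zero_iff_mem, map_sub, map_one, hf, map_prod,
              Finset.prod_eq_one fun m hm => ?_, sub_self]
            have := (Ideal.Quotient.eq_zero_iff_mem).2 (this m hm)
            rwa [map_sub (Ideal.Quotient.mk M) (1 - m ^ N) 1, map_one, sub_eq_zero] at this
          have := M.add_mem h4 h
          rwa [show f - 1 + (1 - f ^ N) = f - f ^ N by ring] at this
        have := M.sub_mem h h3
        rwa [show 1 - f ^ N - (f - f ^ N) = 1 - f by ring] at this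
      · exact absurd h hfM
    have := hfm _ hmem
    rwa [mul_sub, mul_one, sub_eq_zero, eq_comm] at this
  -- conjugation by `e` and by `d`
  have hmem : ∀ g : Auto X, endo g * endo q * endo g⁻¹ ∈ R → endo g * endo p * endo g⁻¹ ∈ R →
      ∀ a ∈ R, endo g * a * endo g⁻¹ ∈ R := by
    intro g hgq hgp a ha
    have hone : endo g⁻¹ * endo g = 1 := by rw [← endo_mul, inv_mul_cancel, endo_one]
    have hone' : endo g * endo g⁻¹ = 1 := by rw [← endo_mul, mul_inv_cancel, endo_one]
    induction ha using Subring.closure_induction with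
    | mem x hx => rcases hx with rfl | rfl <;> assumption
    | zero => rw [mul_zero, zero_mul]; exact zero_mem R
    | one => rw [mul_one, hone']; exact one_mem R
    | add x y _ _ h1 h2 => rw [mul_add, add_mul]; exact add_mem h1 h2
    | neg x _ h1 => rw [mul_neg, neg_mul]; exact neg_mem h1
    | mul x y _ _ h1 h2 =>
      rw [show endo g * (x * y) * endo g⁻¹ = endo g * x * endo g⁻¹ * (endo g * y * endo g⁻¹) by
        simp only [mul_assoc]; rw [← mul_assoc (endo g⁻¹) (endo g), hone, one_mul]]
      exact mul_mem h1 h2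
  have hinvmem : ∀ (a : Auto X), endo a ∈ R → a ^ n = 1 → endo a⁻¹ ∈ R := fun a ha han => by
    rw [inv_eq_of_mul_eq_one_right (show a * a ^ (n - 1) = 1 by
      rw [← pow_succ', Nat.sub_add_cancel hn0, han]), endo_pow]
    exact pow_mem ha _
  have hqR : endo q ∈ R := q'.2
  have hpR : endo p ∈ R := p'.2
  have heR := hmem e (by rw [← endo_mul, ← endo_mul, he1, mul_inv_cancel_right]; exact hinvmem q hqR hqn)
    (by rw [← endo_mul, ← endo_mul, he2, mul_inv_cancel_right]; exact hpR)
  have hdR := hmem d (by rw [← endo_mul, ← endo_mul, hd2, mul_inv_cancel_right]; exact hqR)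
    (by rw [← endo_mul, ← endo_mul, hd1, mul_inv_cancel_right]; exact hinvmem p hpR hpn)
  let ψ : (g : Auto X) → (∀ a ∈ R, endo g * a * endo g⁻¹ ∈ R) → (R →+* R) := fun g hg =>
    { toFun := fun a => ⟨endo g * a * endo g⁻¹, hg a a.2⟩
      map_zero' := Subtype.ext (by simp)
      map_one' := Subtype.ext (by
        show endo g * 1 * endo g⁻¹ = 1
        rw [mul_one, ← endo_mul, mul_inv_cancel, endo_one])
      map_add' := fun a b => Subtype.ext (by simp [mul_add, add_mul])
      map_mul' := fun a b => Subtype.ext (by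
        show endo g * (a.1 * b.1) * endo g⁻¹ = endo g * a.1 * endo g⁻¹ * (endo g * b.1 * endo g⁻¹)
        have hone : endo g⁻¹ * endo g = 1 := by rw [← endo_mul, inv_mul_cancel, endo_one]
        simp only [mul_assoc]
        rw [← mul_assoc (endo g⁻¹) (endo g), hone, one_mul]) }
  set σ := ψ e heR with hσ
  set τ := ψ d hdR with hτ
  have hσq : σ q' * q' = 1 := Subtype.ext (by
    show endo e * endo q * endo e⁻¹ * endo q = 1
    rw [← endo_mul, ← endo_mul, ← endo_mul, he1, mul_inv_cancel_right, inv_mul_cancel, endo_one])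
  have hτp : τ p' * p' = 1 := Subtype.ext (by
    show endo d * endo p * endo d⁻¹ * endo p = 1
    rw [← endo_mul, ← endo_mul, ← endo_mul, hd1, mul_inv_cancel_right, inv_mul_cancel, endo_one])
  have hσp : σ p' = p' := Subtype.ext (by
    show endo e * endo p * endo e⁻¹ = endo p
    rw [← endo_mul, ← endo_mul, he2, mul_inv_cancel_right])
  have hτq : τ q' = q' := Subtype.ext (by
    show endo d * endo q * endo d⁻¹ = endo q
    rw [← endo_mul, ← endo_mul, hd2, mul_inv_cancel_right])
  have hinj : ∀ (a b c : R), a * b = 1 → c * b = 1 → a = c := fun a b c h1 h2 => by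
    calc a = a * (c * b) := by rw [h2, mul_one]
      _ = c * (a * b) := by ring
      _ = c := by rw [h1, mul_one]
  have hσσ : ∀ a, σ (σ a) = a := by
    intro a
    have key : (σ.comp σ) = RingHom.id R := by
      refine RingHom.ext fun a => ?_
      obtain ⟨a, ha⟩ := a
      induction ha using Subring.closure_induction with
      | mem x hx =>
        rcases hx with rfl | rfl
        · show σ (σ q') = q'
          exact hinj _ (σ q') _ (by rw [← map_mul, hσq, map_one]) (by rw [mul_comm, hσq])
        · show σ (σ p') = p'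
          rw [hσp, hσp]
      | zero => exact map_zero (σ.comp σ)
      | one => exact map_one (σ.comp σ)
      | add x y hx hy h1 h2 => exact (map_add (σ.comp σ) ⟨x, hx⟩ ⟨y, hy⟩).trans (congrArg₂ (· + ·) h1 h2)
      | neg x hx h1 => exact (map_neg (σ.comp σ) ⟨x, hx⟩).trans (congrArg (fun z => -z) h1)
      | mul x y hx hy h1 h2 => exact (map_mul (σ.comp σ) ⟨x, hx⟩ ⟨y, hy⟩).trans (congrArg₂ (· * ·) h1 h2)
    exact RingHom.congr_fun key a
  have hττ : ∀ a, τ (τ a) = a := by
    intro a
    have key : (τ.comp τ) = RingHom.id R := by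
      refine RingHom.ext fun a => ?_
      obtain ⟨a, ha⟩ := a
      induction ha using Subring.closure_induction with
      | mem x hx =>
        rcases hx with rfl | rfl
        · show τ (τ q') = q'
          rw [hτq, hτq]
        · show τ (τ p') = p'
          exact hinj _ (τ p') _ (by rw [← map_mul, hτp, map_one]) (by rw [mul_comm, hτp])
      | zero => exact map_zero (τ.comp τ)
      | one => exact map_one (τ.comp τ)
      | add x y hx hy h1 h2 => exact (map_add (τ.comp τ) ⟨x, hx⟩ ⟨y, hy⟩).trans (congrArg₂ (· + ·) h1 h2)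
      | neg x hx h1 => exact (map_neg (τ.comp τ) ⟨x, hx⟩).trans (congrArg (fun z => -z) h1)
      | mul x y hx hy h1 h2 => exact (map_mul (τ.comp τ) ⟨x, hx⟩ ⟨y, hy⟩).trans (congrArg₂ (· * ·) h1 h2)
    exact RingHom.congr_fun key a
  have hστ : ∀ a, σ (τ a) = τ (σ a) := by
    intro a
    have key : (σ.comp τ) = τ.comp σ := by
      refine RingHom.ext fun a => ?_
      obtain ⟨a, ha⟩ := a
      induction ha using Subring.closure_induction with
      | mem x hx =>
        rcases hx with rfl | rfl
        · show σ (τ q') = τ (σ q')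
          rw [hτq]
          exact hinj _ q' _ hσq (by rw [← congrArg (fun z => τ (σ q') * z) hτq, ← map_mul, hσq, map_one])
        · show σ (τ p') = τ (σ p')
          rw [hσp]
          exact hinj _ p' _ (by rw [← congrArg (fun z => σ (τ p') * z) hσp, ← map_mul, hτp, map_one]) hτp
      | zero => rw [show (⟨0, _⟩ : R) = 0 from rfl, map_zero, map_zero]
      | one => rw [show (⟨1, _⟩ : R) = 1 from rfl, map_one, map_one]
      | add x y hx hy h1 h2 =>
        exact (map_add (σ.comp τ) ⟨x, hx⟩ ⟨y, hy⟩).trans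
          ((congrArg₂ (· + ·) h1 h2).trans (map_add (τ.comp σ) ⟨x, hx⟩ ⟨y, hy⟩).symm)
      | neg x hx h1 =>
        exact (map_neg (σ.comp τ) ⟨x, hx⟩).trans
          ((congrArg (fun z => -z) h1).trans (map_neg (τ.comp σ) ⟨x, hx⟩).symm)
      | mul x y hx hy h1 h2 =>
        exact (map_mul (σ.comp τ) ⟨x, hx⟩ ⟨y, hy⟩).trans
          ((congrArg₂ (· * ·) h1 h2).trans (map_mul (τ.comp σ) ⟨x, hx⟩ ⟨y, hy⟩).symm)
    exact RingHom.congr_fun key a
  -- primitive idempotents: images of `f` are equal or orthogonal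
  have horth : ∀ g : R, g * g = g → (∀ c : R, c * c = c → c * g = 0 ∨ c * g = g) → g * f = 0 ∨ g = f := by
    intro g hg hprim
    by_cases hgM : g ∈ M
    · left; rw [mul_comm]; exact hfm g hgM
    · right
      have h1 : 1 - g ∈ M := by
        refine (hM.isPrime.mem_or_mem (show g * (1 - g) ∈ M by
          rw [mul_sub, mul_one, hg, sub_self]; exact M.zero_mem)).resolve_left hgM
      have h2 := hfm _ h1
      rw [mul_sub, mul_one, sub_eq_zero] at h2
      rcases hprim f hff with h3 | h3
      · exact absurd (h2.trans h3) (fun e => hfM (e ▸ M.zero_mem))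
      · exact h3.symm.trans h2.symm
  have hfprim : ∀ c : R, c * c = c → c * f = 0 ∨ c * f = f := by
    intro c hcc
    by_cases hcM : c ∈ M
    · left; rw [mul_comm]; exact hfm c hcM
    · right
      have h1 : 1 - c ∈ M := (hM.isPrime.mem_or_mem (show c * (1 - c) ∈ M by
        rw [mul_sub, mul_one, hcc, sub_self]; exact M.zero_mem)).resolve_left hcM
      have h2 := hfm _ h1
      rw [mul_sub, mul_one, sub_eq_zero] at h2
      rw [mul_comm, ← h2]
  have himg : ∀ θ : R →+* R, (∀ a, θ (θ a) = a) → ∀ g : R, g * g = g →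
      (∀ c : R, c * c = c → c * g = 0 ∨ c * g = g) →
      θ g * θ g = θ g ∧ ∀ c : R, c * c = c → c * θ g = 0 ∨ c * θ g = θ g := by
    intro θ hθ g hg hprim
    refine ⟨by rw [← map_mul, hg], fun c hcc => ?_⟩
    rcases hprim (θ c) (by rw [← map_mul, hcc]) with h | h
    · left; rw [← hθ c, ← map_mul, h, map_zero]
    · right; rw [← hθ c, ← map_mul, h]
  obtain ⟨hσf1, hσf2⟩ := himg σ hσσ f hff hfprim
  obtain ⟨hτf1, hτf2⟩ := himg τ hττ f hff hfprim
  obtain ⟨hστf1, hστf2⟩ := himg σ hσσ (τ f) hτf1 hτf2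
  -- the images cannot all be equal to `f`
  have hne : ¬ (σ f = f ∧ τ f = f) := by
    rintro ⟨hσf, hτf⟩
    let _ : Field (R ⧸ M) := Ideal.Quotient.field M
    have : CharP (R ⧸ M) 2 := CharTwo.of_one_ne_zero_of_two_eq_zero one_ne_zero
      (by rw [← one_add_one_eq_two, ← map_one (Ideal.Quotient.mk M), ← map_add, htwo, map_zero])
    have hpres : ∀ θ : R →+* R, θ f = f → ∀ m ∈ M, θ m ∈ M := fun θ hθ m hm => by
      have h := congrArg θ (hfm m hm)
      rw [map_mul, hθ, map_zero] at h
      exact (hM.isPrime.mem_or_mem (h ▸ M.zero_mem)).resolve_left hfM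
    let bar : (θ : R →+* R) → θ f = f → (∀ a, θ (θ a) = a) → (R ⧸ M) ≃+* (R ⧸ M) := fun θ hθ hθθ =>
      RingEquiv.ofRingHom (Ideal.quotientMap M θ (fun m hm => hpres θ hθ m hm))
        (Ideal.quotientMap M θ (fun m hm => hpres θ hθ m hm))
        (Ideal.Quotient.ringHom_ext (RingHom.ext fun a => by
          show Ideal.Quotient.mk M (θ (θ a)) = Ideal.Quotient.mk M a
          rw [hθθ]))
        (Ideal.Quotient.ringHom_ext (RingHom.ext fun a => by
          show Ideal.Quotient.mk M (θ (θ a)) = Ideal.Quotient.mk M a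
          rw [hθθ]))
    have hfix : ∀ a : R, Ideal.Quotient.mk M a = 1 → ∀ g : Auto X, endo g = a →
        (∀ x, endo g x = x → x = 0) → False := by
      intro a ha g hga hg
      rw [← map_one (Ideal.Quotient.mk M), Ideal.Quotient.eq] at ha
      have h1 := hfm _ ha
      rw [mul_sub, mul_one, sub_eq_zero, mul_comm] at h1
      refine hfM ?_
      have h0 : f = 0 := Subtype.ext (AddMonoidHom.ext fun x => hg _ (by
        have h5 := DFunLike.congr_fun (congrArg Subtype.val h1) x
        change a.1 (f.1 x) = f.1 x at h5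
        rw [← hga] at h5
        exact h5))
      rw [h0]; exact M.zero_mem
    have hsq : ∀ (θ : R →+* R) (a : R), θ a * a = 1 → Ideal.Quotient.mk M (θ a) = Ideal.Quotient.mk M a →
        Ideal.Quotient.mk M a = 1 := by
      intro θ a h1 h3
      have h4 := congrArg (Ideal.Quotient.mk M) h1
      rw [map_mul, h3, map_one] at h4
      rcases mul_self_eq_one_iff.1 h4 with h | h
      · exact h
      · rwa [CharTwo.neg_eq] at h
    refine ringEquiv_eq_of_sq (bar σ hσf hσσ) (bar τ hτf hττ) (x := Ideal.Quotient.mk M q')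
      (y := Ideal.Quotient.mk M p') (z := Ideal.Quotient.mk M q') ?_ ?_ ?_ ?_ ?_
    · intro a; obtain ⟨a, rfl⟩ := Ideal.Quotient.mk_surjective a
      exact congrArg (Ideal.Quotient.mk M) (hσσ a)
    · intro a; obtain ⟨a, rfl⟩ := Ideal.Quotient.mk_surjective a
      exact congrArg (Ideal.Quotient.mk M) (hττ a)
    · intro h
      exact hfix q' (hsq σ q' hσq h) q rfl hq
    · intro h
      exact hfix p' (hsq τ p' hτp h) p rfl hp
    · intro h
      exact hfix q' (hsq σ q' hσq (h.trans (congrArg (Ideal.Quotient.mk M) hτq))) q rfl hq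
  -- the subgroup
  set Y := AddMonoidHom.range f.1 with hY
  have hYf : ∀ y : X, y ∈ Y ↔ f.1 y = y := fun y => by
    refine ⟨?_, fun h => ⟨y, h⟩⟩
    rintro ⟨x, rfl⟩
    exact DFunLike.congr_fun (congrArg Subtype.val hff) x
  have hcomm : ∀ g : Auto X, g * q = q * g → g * p = p * g → ∀ a ∈ R, endo g * a = a * endo g := by
    intro g hgq hgp a ha
    induction ha using Subring.closure_induction with
    | mem x hx => rcases hx with rfl | rfl <;> simp only [← endo_mul, hgq, hgp]
    | zero => rw [mul_zero, zero_mul]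
    | one => rw [mul_one, one_mul]
    | add x y _ _ h1 h2 => rw [mul_add, add_mul, h1, h2]
    | neg x _ h1 => rw [mul_neg, neg_mul, h1]
    | mul x y _ _ h1 h2 => rw [← mul_assoc, h1, mul_assoc, h2, mul_assoc]
  have hinv : ∀ g : Auto X, endo g * f.1 = f.1 * endo g → ∀ y ∈ Y, endo g y ∈ Y := by
    intro g hg y hy
    rw [hYf] at hy ⊢
    have := DFunLike.congr_fun hg y
    change endo g (f.1 y) = f.1 (endo g y) at this
    rw [← this, hy]
  have hfix : ∀ (g : Auto X) (hg : ∀ a ∈ R, endo g * a * endo g⁻¹ ∈ R), ψ g hg f = f →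
      endo g * f.1 = f.1 * endo g := by
    intro g hg h
    have h1 := congrArg (fun z : R => z.1 * endo g) h
    change endo g * f.1 * endo g⁻¹ * endo g = f.1 * endo g at h1
    rwa [mul_assoc _ (endo g⁻¹), ← endo_mul, inv_mul_cancel, endo_one, mul_one] at h1
  refine ⟨Y, fun h => hfM ?_, fun g hgq hgp => hinv g (hcomm g hgq hgp _ f.2), ?_⟩
  · have h0 : f = 0 := Subtype.ext (AddMonoidHom.ext fun x => by
      have : f.1 x ∈ Y := ⟨x, rfl⟩
      rwa [h, AddSubgroup.mem_bot] at this)
    rw [h0]; exact M.zero_mem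
  -- the images of `Y`
  have hmove : ∀ (g : Auto X) (hg : ∀ a ∈ R, endo g * a * endo g⁻¹ ∈ R) (a : R) (y : X),
      a.1 y = y → (ψ g hg a).1 (endo g y) = endo g y := by
    intro g hg a y hy
    show endo g (a.1 (endo g⁻¹ (endo g y))) = endo g y
    rw [endo_inv_apply, hy]
  have hkill : ∀ (a b : R) (y : X), a * b = 0 → b.1 y = y → a.1 y = 0 := by
    intro a b y hab hy
    rw [← hy]
    exact DFunLike.congr_fun (congrArg Subtype.val hab) y
  have htwoc : ∀ (g : Auto X) (hg : ∀ a ∈ R, endo g * a * endo g⁻¹ ∈ R),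
      ψ g hg f * f = 0 → Nat.card Y ^ 2 ≤ Nat.card X := by
    intro g hg h
    rw [pow_two, ← Nat.card_prod]
    refine Nat.card_le_card_of_injective (fun z : Y × Y => (z.1 : X) + endo g z.2) fun z w hzw => ?_
    have key : ∀ z : Y × Y, f.1 ((z.1 : X) + endo g z.2) = z.1 := fun z => by
      rw [map_add, (hYf _).1 z.1.2, hkill f (ψ g hg f) _ (by rw [mul_comm]; exact h)
        (hmove g hg f _ ((hYf _).1 z.2.2)), add_zero]
    have e1 := congrArg f.1 hzw
    simp only [key] at e1
    have e2 : endo g (z.2 : X) = endo g w.2 := by simpa [e1] using hzw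
    exact Prod.ext (Subtype.ext e1) (Subtype.ext (endo_injective g e2))
  by_cases h1 : σ f = f
  · rcases horth (τ f) hτf1 hτf2 with h | h
    · exact Or.inl ⟨Or.inl (hinv e (hfix e heR h1)), htwoc d hdR h⟩
    · exact absurd ⟨h1, h⟩ hne
  · have h1' := (horth (σ f) hσf1 hσf2).resolve_right h1
    by_cases h3 : τ f = f
    · exact Or.inl ⟨Or.inr (Or.inl (hinv d (hfix d hdR h3))), htwoc e heR h1'⟩
    · have h3' := (horth (τ f) hτf1 hτf2).resolve_right h3
      by_cases h5 : σ (τ f) = f
      · refine Or.inl ⟨Or.inr (Or.inr (hinv (e * d) ?_)), htwoc e heR h1'⟩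
        have ha : τ f = σ f := by rw [← h5, hσσ, h5]
        rw [endo_mul, mul_assoc]
        have e1 : endo d * f.1 = (τ f).1 * endo d := by
          show endo d * f.1 = endo d * f.1 * endo d⁻¹ * endo d
          rw [mul_assoc _ (endo d⁻¹), ← endo_mul, inv_mul_cancel, endo_one, mul_one]
        have e2 : endo e * (τ f).1 = (σ (τ f)).1 * endo e := by
          show endo e * (τ f).1 = endo e * (τ f).1 * endo e⁻¹ * endo e
          rw [mul_assoc _ (endo e⁻¹), ← endo_mul, inv_mul_cancel, endo_one, mul_one]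
        rw [e1, ← mul_assoc, e2, h5, mul_assoc]
      · right
        have h5' := (horth (σ (τ f)) hστf1 hστf2).resolve_right h5
        rw [show Nat.card Y ^ 4 = Nat.card (Y × Y × Y × Y) by simp only [Nat.card_prod]; ring]
        refine Nat.card_le_card_of_injective
          (fun z : Y × Y × Y × Y => (z.1 : X) + endo e z.2.1 + endo d z.2.2.1 + endo e (endo d z.2.2.2)) fun z w hzw => ?_
        have k1 : f * σ f = 0 := by rw [mul_comm]; exact h1'
        have k2 : f * τ f = 0 := by rw [mul_comm]; exact h3'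
        have k3 : f * σ (τ f) = 0 := by rw [mul_comm]; exact h5'
        have k4 : σ f * τ f = 0 := by
          have := congrArg σ k3
          rwa [map_mul, hσσ, map_zero] at this
        have k5 : σ f * σ (τ f) = 0 := by rw [← map_mul, k2, map_zero]
        have k6 : τ f * σ (τ f) = 0 := by
          rw [hστ, ← map_mul, k1, map_zero]
        have m1 : ∀ y : Y, f.1 (y : X) = y := fun y => (hYf _).1 y.2
        have m2 : ∀ y : Y, (σ f).1 (endo e y) = endo e y := fun y => hmove e heR f _ (m1 y)
        have m3 : ∀ y : Y, (τ f).1 (endo d y) = endo d y := fun y => hmove d hdR f _ (m1 y)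
        have m4 : ∀ y : Y, (σ (τ f)).1 (endo e (endo d y)) = endo e (endo d y) := fun y => hmove e heR _ _ (m3 y)
        have z1 : ∀ z : Y × Y × Y × Y,
            f.1 ((z.1 : X) + endo e z.2.1 + endo d z.2.2.1 + endo e (endo d z.2.2.2)) = z.1 := fun z => by
          rw [map_add, map_add, map_add, m1, hkill _ _ _ k1 (m2 _), hkill _ _ _ k2 (m3 _),
            hkill _ _ _ k3 (m4 _), add_zero, add_zero, add_zero]
        have z2 : ∀ z : Y × Y × Y × Y,
            (σ f).1 ((z.1 : X) + endo e z.2.1 + endo d z.2.2.1 + endo e (endo d z.2.2.2)) = endo e z.2.1 := fun z => by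
          rw [map_add, map_add, map_add, m2, hkill _ _ _ (mul_comm (σ f) f ▸ k1) (m1 _),
            hkill _ _ _ k4 (m3 _), hkill _ _ _ k5 (m4 _), zero_add, add_zero, add_zero]
        have z3 : ∀ z : Y × Y × Y × Y,
            (τ f).1 ((z.1 : X) + endo e z.2.1 + endo d z.2.2.1 + endo e (endo d z.2.2.2)) = endo d z.2.2.1 := fun z => by
          rw [map_add, map_add, map_add, m3, hkill _ _ _ (mul_comm (τ f) f ▸ k2) (m1 _),
            hkill _ _ _ (mul_comm (τ f) (σ f) ▸ k4) (m2 _), hkill _ _ _ k6 (m4 _), zero_add, zero_add,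
            add_zero]
        have a1 := congrArg f.1 hzw
        have a2 := congrArg (σ f).1 hzw
        have a3 := congrArg (τ f).1 hzw
        simp only [z1, z2, z3] at a1 a2 a3
        have a4 : endo e (endo d (z.2.2.2 : X)) = endo e (endo d w.2.2.2) := by simpa [a1, a2, a3] using hzw
        exact Prod.ext (Subtype.ext a1) (Prod.ext (Subtype.ext (endo_injective e a2))
          (Prod.ext (Subtype.ext (endo_injective d a3)) (Subtype.ext (endo_injective d (endo_injective e a4)))))

end CfsgLib.InvolConj
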