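import Cfsg.Agent.Lib.InvolConj.Orbit
import Cfsg.Agent.Lib.InvolConj.Action
import Cfsg.Agent.Lib.InvolConj.Count
import Cfsg.Agent.Lib.InvolConj.Bound
import Cfsg.Agent.Lib.InvolConj.DihedralSys

/-!
# One class of involutions and trivial odd core: the Sylow 2-subgroup is normal
-/

set_option autoImplicit false

namespace CfsgLib.InvolConj

open Subgroup
open scoped commutatorElement

universe u

theorem false_of_fibres {α β : Type*} [Finite α] [Finite β] (f : α → β) (b0 : β) (k : ℕ)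
    (h0 : Nat.card {a : α // f a = b0} = 1) (h3 : ∀ b : β, b ≠ b0 → Nat.card {a : α // f a = b} = 3)
    (hb : Nat.card β = 2 ^ k) (ha : Nat.card α = 4 ^ k) (hk : 2 ≤ k) : False := by
  classical
  let _ := Fintype.ofFinite α
  let _ := Fintype.ofFinite β
  simp only [Nat.card_eq_fintype_card, Fintype.card_subtype] at h0 h3
  rw [Nat.card_eq_fintype_card] at hb ha
  have h1 := Finset.card_eq_sum_card_fiberwise (f := f) (s := (Finset.univ : Finset α))
    (t := (Finset.univ : Finset β)) (fun a _ => Finset.mem_univ _)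
  rw [← Finset.add_sum_erase _ _ (Finset.mem_univ b0), h0,
    Finset.sum_congr rfl fun b hb => h3 b (Finset.mem_erase.1 hb).1, Finset.sum_const,
    Finset.card_erase_of_mem (Finset.mem_univ b0), Finset.card_univ, Finset.card_univ, smul_eq_mul, ha,
    hb, show (4 : ℕ) ^ k = 2 ^ k * 2 ^ k by rw [← mul_pow]; norm_num] at h1
  have h4 : 2 ^ 2 ≤ 2 ^ k := Nat.pow_le_pow_right two_pos hk
  have h5 : 4 * 2 ^ k ≤ 2 ^ k * 2 ^ k := Nat.mul_le_mul_right _ h4
  have := Nat.one_le_two_pow (n := k)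
  omega

variable {G : Type u} [Group G] [Finite G]

/-- An element of odd order in the image of `K` comes from an element of odd order. -/
theorem exists_odd_lift {P K : Subgroup G} [P.Normal] {f : G ⧸ P}
    (hf : f ∈ K.map (QuotientGroup.mk' P)) (hodd : (orderOf f).Coprime 2) :
    ∃ g ∈ K, QuotientGroup.mk' P g = f ∧ (orderOf g).Coprime 2 := by
  have := Fact.mk Nat.prime_two
  obtain ⟨g, hg, rfl⟩ := hf
  obtain ⟨a, m, hm, hgm⟩ := Nat.exists_eq_pow_mul_and_not_dvd (orderOf_pos g).ne' 2 (by norm_num)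
  obtain ⟨t, ht⟩ := exists_pow_eq_self_of_coprime
    ((hodd.pow_right a).symm : (2 ^ a).Coprime (orderOf (QuotientGroup.mk' P g)))
  refine ⟨(g ^ 2 ^ a) ^ t, pow_mem (pow_mem hg _) _, by rw [map_pow, map_pow, ht], ?_⟩
  refine Nat.Coprime.coprime_dvd_left (orderOf_dvd_of_pow_eq_one (n := m) ?_)
    (Nat.coprime_comm.1 (Nat.prime_two.coprime_iff_not_dvd.2 hm))
  rw [← pow_mul, ← pow_mul, show 2 ^ a * (t * m) = (2 ^ a * m) * t by ring, ← hgm, pow_mul,
    pow_orderOf_eq_one, one_pow]

theorem OneClass.four_le_card (h : OneClass G) : 4 ≤ Nat.card (invols G) := by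
  classical
  obtain ⟨a, b, hab, ha1, ha, hb1, hb⟩ := h.two
  obtain ⟨n, hn⟩ := IsPGroup.iff_card.1 (invols_isPGroup (G := G))
  let s : Finset (invols G) := {1, ⟨a, h.mem_invols ha⟩, ⟨b, h.mem_invols hb⟩}
  have hs : s.card = 3 := by
    simp only [s]
    rw [Finset.card_insert_of_notMem (by simp [Subtype.ext_iff, ha1.symm, hb1.symm]),
      Finset.card_insert_of_notMem (by simp [Subtype.ext_iff, hab]), Finset.card_singleton]
  let _ := Fintype.ofFinite (invols G)
  have h3 : 3 ≤ Nat.card (invols G) := by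
    rw [Nat.card_eq_fintype_card, ← hs]; exact s.card_le_univ
  have hn2 : 2 ≤ n := by
    by_contra hlt
    have : 2 ^ n ≤ 2 ^ 1 := Nat.pow_le_pow_right two_pos (by omega)
    omega
  calc 4 = 2 ^ 2 := rfl
    _ ≤ 2 ^ n := Nat.pow_le_pow_right two_pos hn2
    _ = _ := hn.symm

/-- The data of a critical subgroup whose centre is the subgroup of the involutions. -/
def OneClass.sqData (h : OneClass G) {R : Subgroup G} (hR : Crit (Cfsg.pCore 2 G) R)
    (hZ : R ⊓ centralizer (R : Set G) = invols G) : SqData G where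
  R := R
  V := invols G
  normR := hR.normal
  normV := invols_normal
  le := hZ.ge.trans inf_le_left
  central := hZ.ge.trans inf_le_right
  expV := fun _ hv => sq_of_mem_invols hv
  commR := ((commutator_mono le_rfl hR.le).trans hR.comm).trans hZ.le
  sqR := fun x hx => hZ.le ⟨mul_mem hx hx, hR.sq x hx⟩
  aniso := fun _ _ hx => h.mem_invols hx

set_option maxHeartbeats 1000000 in
/-- The Sylow 2-subgroups are `O_2`. -/
theorem OneClass.sylow_le_pCore (h : OneClass G) (S : Sylow 2 G) :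
    (S : Subgroup G) ≤ Cfsg.pCore 2 G := by
  classical
  have := Fact.mk Nat.prime_two
  have := h.solvable
  set P := Cfsg.pCore 2 G with hP
  have hPn : P.Normal := CfsgLib.Solvable.pCore_normal 2 G
  by_contra hne
  set π := QuotientGroup.mk' P with hπ
  set E := omegaCenter ((S : Subgroup G).map π) with hE
  have hEcard := h.card_invols_le S P (CfsgLib.Solvable.pCore_le_sylow S) hne
  have hVn : (invols G).Normal := invols_normal
  set K := centralizer (invols G : Set G) with hK
  set Kb := K.map π with hKb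
  have hKbn : Kb.Normal := Subgroup.Normal.map inferInstance _ (QuotientGroup.mk'_surjective P)
  have hEK : E ≤ Kb := (omegaCenter_le _).trans (Subgroup.map_mono (h.le_centralizer_invols S.2))
  have hsolX : Group.IsSolvable (G ⧸ P) :=
    Group.isSolvable_of_surjective (QuotientGroup.mk'_surjective P)
  have hXcore : Cfsg.pCore 2 (G ⧸ P) = ⊥ := CfsgLib.Solvable.pCore_quotient_eq_bot 2
  set F := (Cfsg.fittingSubgroup Kb).map Kb.subtype with hF
  have hFK : F ≤ Kb := map_subtype_le _
  have hfitn : Group.IsNilpotent (Cfsg.fittingSubgroup Kb) := CfsgLib.Solvable.fittingSubgroup_isNilpotent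
  have hFnil : Group.IsNilpotent F :=
    Group.nilpotent_of_surjective (h := hfitn)
      ((Cfsg.fittingSubgroup Kb).equivMapOfInjective _ Kb.subtype_injective).toMonoidHom
      ((Cfsg.fittingSubgroup Kb).equivMapOfInjective _ Kb.subtype_injective).surjective
  have hFn : F.Normal := by
    have := CfsgLib.Solvable.fittingSubgroup_characteristic Kb
    exact CfsgLib.Solvable.map_subtype_normal _
  have hFodd : (Nat.card F).Coprime 2 := by
    refine Nat.coprime_comm.1 (Nat.prime_two.coprime_iff_not_dvd.2 fun h2 => ?_)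
    obtain ⟨t, ht⟩ := exists_prime_orderOf_dvd_card' 2 h2
    obtain ⟨R⟩ : Nonempty (Sylow 2 F) := inferInstance
    have hRn : (R : Subgroup F).Normal :=
      ((Group.isNilpotent_of_finite_tfae (G := F)).out 0 3 rfl rfl).1 hFnil 2 inferInstance R
    have hF2 : Cfsg.pCore 2 F = ⊥ := by
      refine (Subgroup.map_eq_bot_iff_of_injective _ F.subtype_injective).1 (le_bot_iff.1 ?_)
      exact (CfsgLib.Solvable.map_pCore_le 2 F).trans hXcore.le
    have hR : (R : Subgroup F) = ⊥ :=
      le_bot_iff.1 ((CfsgLib.Solvable.le_pCore hRn R.2).trans hF2.le)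
    obtain ⟨g, hg⟩ := (IsPGroup.of_card (n := 1)
      (by rw [Nat.card_zpowers, ht, pow_one]) : IsPGroup 2 (zpowers t)).exists_le_sylow
    obtain ⟨c, hc⟩ := MulAction.exists_smul_eq F R g
    have hgbot : (g : Subgroup F) = ⊥ := by
      rw [← hc, Sylow.smul_eq_of_normal, hR]
    have := mem_bot.1 (hgbot ▸ hg (mem_zpowers t))
    rw [this, orderOf_one] at ht
    omega
  -- faithfulness of `E`
  have hfaith : ∀ e ∈ E, e ∈ centralizer (F : Set (G ⧸ P)) → e = 1 := by
    intro e he hec
    have h1 : (⟨e, hEK he⟩ : Kb) ∈ Cfsg.fittingSubgroup Kb :=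
      CfsgLib.Solvable.centralizer_fittingSubgroup_le (mem_centralizer_iff.2 fun y hy =>
        Subtype.ext (mem_centralizer_iff.1 hec _ (mem_map_of_mem Kb.subtype hy)))
    have h2 : e ∈ F := mem_map_of_mem Kb.subtype h1
    exact orderOf_eq_one_iff.1 (Nat.eq_one_of_dvd_coprimes hFodd
      (Subgroup.orderOf_dvd_natCard F h2) (orderOf_dvd_of_pow_eq_one (by rw [pow_two]; exact he.2.2)))
  obtain ⟨k, q, e, hEk, hs⟩ := exists_dsys hFnil hFodd
    (by rw [Subgroup.normalizer_eq_top]; exact le_top) (fun e he => (mem_omegaCenter.1 he).2.2) hfaith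
  have hk2 : 2 ≤ k := by
    by_contra hlt
    have h1 := h.four_le_card
    rw [hEk] at hEcard
    have : 2 ^ k ≤ 2 ^ 1 := Nat.pow_le_pow_right two_pos (by omega)
    omega
  have hlift : ∀ f ∈ F, ∃ g ∈ K, π g = f ∧ (orderOf g).Coprime 2 := fun f hf =>
    exists_odd_lift (hFK hf) (hFodd.coprime_dvd_left (Subgroup.orderOf_dvd_natCard F hf))
  have hqne : ∀ i, q i ≠ 1 := fun i h1 => by
    obtain ⟨r, hr, -, hqr⟩ := hs.prime i
    rw [h1, orderOf_one] at hqr
    exact hr.one_lt.ne hqr
  -- the quadratic map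
  obtain ⟨R, hR⟩ := exists_crit P (CfsgLib.Solvable.pCore_isPGroup 2)
  have hZ : R ⊓ centralizer (R : Set G) = invols G := by
    obtain ⟨g, hgK, hgf, hgodd⟩ := hlift _ (hs.memF ⟨0, by omega⟩)
    exact h.centre_eq hR hgK hgodd fun h1 => hqne ⟨0, by omega⟩ (by rw [← hgf, h1, map_one])
  set D : SqData G := h.sqData hR hZ with hD
  have hker : P ≤ D.act.ker := fun p hp => MonoidHom.mem_ker.2 (D.act_eq_one fun x hx => by
    have h1 := hZ.le (hR.comm (commutator_mem_commutator hx hp))
    rw [show p * x * p⁻¹ * x⁻¹ = ⁅x, p⁆⁻¹ by rw [commutatorElement_inv, commutatorElement_def]]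
    exact inv_mem h1)
  set Ψ : G ⧸ P →* Auto (Additive D.W) := QuotientGroup.lift P D.act hker with hΨ
  have hΨmk : ∀ g, Ψ (π g) = D.act g := fun g => rfl
  have hiso : ∀ x ∈ Kb, ∀ w, D.Q (endo (Ψ x) w) = D.Q w := by
    rintro _ ⟨g, hg, rfl⟩ w
    rw [hΨmk]
    exact D.Q_act (fun v hv => mul_inv_eq_iff_eq_mul.2 (mem_centralizer_iff.1 hg v hv).symm) w
  have hmove : ∀ f ∈ F, f ≠ 1 → ∃ w, endo (Ψ f) w ≠ w := by
    intro f hf hf1
    by_contra hall
    push Not at hall
    obtain ⟨g, hgK, hgf, hgodd⟩ := hlift f hf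
    rw [← hgf, hΨmk] at hall
    have h1 := h.eq_one_of_trivial hR hgK hgodd fun x hx =>
      centralizer_le (SetLike.coe_subset_coe.2 hR.le) (D.trivial_of_act hall x hx).2.1
    exact hf1 (by rw [← hgf, h1, map_one])
  have hsys : Sys D.Q (⊤ : AddSubgroup (Additive D.W)) (Finset.univ : Finset (Fin k))
      (fun i => Ψ (q i)) (fun i => Ψ (e i)) :=
    { inv_q := fun _ _ _ _ => trivial
      inv_e := fun _ _ _ _ => trivial
      iso := fun i _ => hiso _ (hFK (hs.memF i))
      comm := fun i _ j _ => by rw [← map_mul, hs.comm, map_mul]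
      prime := fun i _ => by
        obtain ⟨r, hr, hr2, hqr⟩ := hs.prime i
        exact ⟨r, hr, hr2, by rw [← map_pow, ← hqr, pow_orderOf_eq_one, map_one]⟩
      inverts := fun i _ => by
        rw [← map_mul, ← map_inv, ← map_mul]
        exact congrArg Ψ (conj_inv_of_sq (hs.mem1 i).2.2 (hs.inverts i))
      cen := fun i _ j _ hij => by
        rw [← map_mul, ← map_mul]
        refine congrArg Ψ ?_
        conv_rhs => rw [← hs.cen i j hij]
        rw [mul_assoc (e i * q j), (hs.mem1 i).2.2, mul_one]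
      ne := fun i _ => by
        obtain ⟨w, hw⟩ := hmove _ (hs.memF i) (hqne i)
        exact ⟨w, trivial, hw⟩ }
  obtain ⟨hbig, hplane⟩ := sys_card D.quad hsys
  rw [Finset.card_univ, Fintype.card_fin] at hbig hplane
  have hW : Nat.card (⊤ : AddSubgroup (Additive D.W)) = Nat.card (Additive D.W) := AddSubgroup.card_top
  rw [hW] at hbig hplane
  have hVc : Nat.card (Additive D.V) = Nat.card (invols G) := rfl
  have hsq := card_le_sq D.quad
  rw [hVc] at hsq
  rw [hEk] at hEcard
  have h4k : 4 ^ k = (2 ^ k) ^ 2 := by rw [← pow_mul, mul_comm, pow_mul]; norm_num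
  have hVk : Nat.card (invols G) = 2 ^ k := le_antisymm hEcard <| by
    have h1 : (2 ^ k) ^ 2 ≤ Nat.card (invols G) ^ 2 := h4k ▸ hbig.trans hsq
    exact (Nat.pow_le_pow_iff_left two_ne_zero).1 h1
  have hWk : Nat.card (Additive D.W) = 4 ^ k := le_antisymm (by rw [h4k, ← hVk]; exact hsq) hbig
  obtain ⟨v0, hv0, hv3⟩ :=
    (hplane ⟨⟨0, by omega⟩, Finset.mem_univ _⟩ hWk).exists_card D.quad
  refine false_of_fibres D.Q 0 k ?_ (fun b hb => ?_) (hVc.trans hVk) hWk hk2
  · refine Nat.card_eq_one_iff_exists.2 ⟨⟨0, D.quad.zero⟩, fun w => Subtype.ext ?_⟩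
    exact D.quad.aniso _ w.2
  · have hv0' : ((v0.toMul : D.V) : G) ≠ 1 := fun h1 => hv0 (congrArg Additive.ofMul (Subtype.ext h1))
    have hb' : ((b.toMul : D.V) : G) ≠ 1 := fun h1 => hb (congrArg Additive.ofMul (Subtype.ext h1))
    obtain ⟨g, hg⟩ := h.conj _ _ hv0' (D.expV _ v0.toMul.2) hb' (D.expV _ b.toMul.2)
    rw [← hv3]
    have heq : (b : Additive D.V) = Additive.ofMul (⟨g * (v0.toMul : D.V) * g⁻¹,
        D.normV.conj_mem _ v0.toMul.2 g⟩ : D.V) :=
      congrArg Additive.ofMul (Subtype.ext hg.symm)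
    refine (Nat.card_congr (Equiv.subtypeEquiv
      ⟨endo (D.act g), endo (D.act g)⁻¹, endo_inv_apply _, endo_apply_inv _⟩ fun w => ?_)).symm
    show w ∈ (⊤ : AddSubgroup (Additive D.W)) ∧ D.Q w = v0 ↔ D.Q (endo (D.act g) w) = b
    rw [heq]
    exact ⟨fun hw => (D.Q_eq_iff_act g w v0.toMul).1 hw.2,
      fun hw => ⟨trivial, (D.Q_eq_iff_act g w v0.toMul).2 hw⟩⟩

end CfsgLib.InvolConj
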