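import Cfsg.Agent.Lib.InvolConj.Idem

/-!
# Anisotropic quadratic maps and commuting isometries, each inverted alone
-/

set_option autoImplicit false

namespace CfsgLib.InvolConj

universe u v

variable {W : Type u} [AddCommGroup W] {V : Type v} [AddCommGroup V]

/-- The polar form. -/
def polar (Q : W → V) (a b : W) : V := Q (a + b) + Q a + Q b

/-- A quadratic map between groups of exponent two with no nontrivial zero. -/
structure Quad (Q : W → V) : Prop where
  twoW : ∀ x : W, x + x = 0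
  twoV : ∀ x : V, x + x = 0
  polar_add : ∀ a b c : W, polar Q a (b + c) = polar Q a b + polar Q a c
  aniso : ∀ x : W, Q x = 0 → x = 0

variable {Q : W → V}

theorem Quad.zero (h : Quad Q) : Q 0 = 0 := by
  have h1 := h.polar_add 0 0 0
  simp only [polar, add_zero] at h1
  rw [h.twoV, zero_add, h.twoV] at h1
  exact h1

theorem polar_comm (Q : W → V) (a b : W) : polar Q a b = polar Q b a := by
  rw [polar, polar, add_comm a b]; abel

theorem Quad.map_add (h : Quad Q) (a b : W) : Q (a + b) = Q a + Q b + polar Q a b := by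
  rw [polar, show Q a + Q b + (Q (a + b) + Q a + Q b) = Q (a + b) + ((Q a + Q a) + (Q b + Q b)) by abel,
    h.twoV, h.twoV, add_zero, add_zero]

theorem Quad.polar_zero (h : Quad Q) (a : W) : polar Q a 0 = 0 := by
  have := h.polar_add a 0 0
  rw [add_zero] at this
  exact left_eq_add.1 this

theorem Quad.eq_of_add_eq_zero (h : Quad Q) {a b : W} (e : a + b = 0) : a = b := by
  have := congrArg (· + b) e
  simp only [add_assoc, h.twoW, add_zero, zero_add] at this
  exact this

/-- An isometry of order dividing an odd number is inverted or centralised as prescribed. -/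
structure Sys {ι : Type} (Q : W → V) (X : AddSubgroup W) (I : Finset ι) (q e : ι → Auto W) : Prop where
  inv_q : ∀ i ∈ I, ∀ x ∈ X, endo (q i) x ∈ X
  inv_e : ∀ i ∈ I, ∀ x ∈ X, endo (e i) x ∈ X
  iso : ∀ i ∈ I, ∀ x, Q (endo (q i) x) = Q x
  comm : ∀ i ∈ I, ∀ j ∈ I, q i * q j = q j * q i
  prime : ∀ i ∈ I, ∃ r : ℕ, r.Prime ∧ r ≠ 2 ∧ q i ^ r = 1
  inverts : ∀ i ∈ I, e i * q i = (q i)⁻¹ * e i
  cen : ∀ i ∈ I, ∀ j ∈ I, i ≠ j → e i * q j = q j * e i
  ne : ∀ i ∈ I, ∃ x ∈ X, endo (q i) x ≠ x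

/-- A plane on which `Q` is constant off zero, with an orthogonal complement. -/
def HasPlane (Q : W → V) (X : AddSubgroup W) : Prop :=
  ∃ (P D : AddSubgroup W) (v : V), P ≤ X ∧ D ≤ X ∧ Nat.card P = 4 ∧ (∀ x ∈ P, x ≠ 0 → Q x = v) ∧
    (∀ x ∈ X, ∃ a ∈ P, ∃ b ∈ D, a + b = x) ∧ ∀ a ∈ P, ∀ b ∈ D, polar Q a b = 0

theorem HasPlane.exists_card [Finite W] (h : Quad Q) {X : AddSubgroup W} (hp : HasPlane Q X) :
    ∃ v : V, v ≠ 0 ∧ Nat.card {x : W // x ∈ X ∧ Q x = v} = 3 := by
  classical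
  obtain ⟨P, D, v, hPX, -, hP4, hPv, hdec, horth⟩ := hp
  have hne : P ≠ ⊥ := fun e => by rw [e, AddSubgroup.card_bot] at hP4; omega
  obtain ⟨a', ha', ha'0⟩ := (AddSubgroup.bot_or_exists_ne_zero P).resolve_left hne
  refine ⟨v, fun e => ha'0 (h.aniso _ ((hPv a' ha' ha'0).trans e)), ?_⟩
  have key : ∀ x : W, x ∈ X ∧ Q x = v ↔ x ∈ P ∧ x ≠ 0 := by
    refine fun x => ⟨fun hx => ?_, fun hx => ⟨hPX hx.1, hPv x hx.1 hx.2⟩⟩
    have hx0 : x ≠ 0 := fun e => ha'0 (h.aniso _ (by rw [hPv a' ha' ha'0, ← hx.2, e, h.zero]))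
    refine ⟨?_, hx0⟩
    obtain ⟨a, ha, b, hb, rfl⟩ := hdec x hx.1
    have e := hx.2
    rw [h.map_add, horth a ha b hb, add_zero] at e
    by_cases ha0 : a = 0
    · rw [ha0, h.zero, zero_add] at e
      have e2 : Q (a' + b) = 0 := by rw [h.map_add, horth a' ha' b hb, hPv a' ha' ha'0, e, h.twoV, add_zero]
      rw [ha0, zero_add, ← h.eq_of_add_eq_zero (h.aniso _ e2)]
      exact ha'
    · rw [hPv a ha ha0] at e
      have : Q b = 0 := by
        have := congrArg (v + ·) e
        simpa [← add_assoc, h.twoV] using this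
      rw [h.aniso _ this, add_zero]
      exact ha
  have e1 : {x : W // x ∈ X ∧ Q x = v} ≃ {x : P // x ≠ 0} :=
    { toFun := fun x => ⟨⟨x.1, ((key _).1 x.2).1⟩, fun e => ((key _).1 x.2).2 (congrArg Subtype.val e)⟩
      invFun := fun x => ⟨x.1.1, (key _).2 ⟨x.1.2, fun e => x.2 (Subtype.ext e)⟩⟩
      left_inv := fun x => rfl
      right_inv := fun x => rfl }
  let _ := Fintype.ofFinite P
  rw [Nat.card_congr e1, Nat.card_eq_fintype_card, Fintype.card_subtype_compl,
    Fintype.card_subtype_eq, ← Nat.card_eq_fintype_card, hP4]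

/-- `g - 1` as a homomorphism. -/
def subOne (g : Auto W) : W →+ W where
  toFun x := endo g x - x
  map_zero' := by rw [map_zero, sub_zero]
  map_add' x y := by rw [map_add]; abel

/-- `g + 1` as a homomorphism. -/
def addOne (g : Auto W) : W →+ W where
  toFun x := endo g x + x
  map_zero' := by rw [map_zero, add_zero]
  map_add' x y := by rw [map_add]; abel

/-- The points of `X` fixed by `g`. -/
def fixIn (X : AddSubgroup W) (g : Auto W) : AddSubgroup W :=
  X ⊓ (subOne g).ker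

theorem mem_fixIn {X : AddSubgroup W} {g : Auto W} {x : W} :
    x ∈ fixIn X g ↔ x ∈ X ∧ endo g x = x := by
  show x ∈ X ∧ endo g x - x = 0 ↔ _
  rw [sub_eq_zero]

/-- The displacements of `X` under `g`. -/
def dispIn (X : AddSubgroup W) (g : Auto W) : AddSubgroup W :=
  X.map (addOne g)

theorem mem_dispIn {X : AddSubgroup W} {g : Auto W} {x : W} :
    x ∈ dispIn X g ↔ ∃ y ∈ X, endo g y + y = x := Iff.rfl

theorem endo_pow_fix {g : Auto W} {x : W} (h : endo g x = x) : ∀ k : ℕ, endo (g ^ k) x = x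
  | 0 => rfl
  | k + 1 => by
    rw [pow_succ, endo_mul]
    show endo (g ^ k) (endo g x) = x
    rw [h, endo_pow_fix h k]

theorem endo_inv_fix {g : Auto W} {x : W} (h : endo g x = x) : endo g⁻¹ x = x := by
  conv_lhs => rw [← h]
  exact endo_inv_apply g x

theorem endo_commute_apply {g h : Auto W} (e : g * h = h * g) (x : W) :
    endo g (endo h x) = endo h (endo g x) :=
  DFunLike.congr_fun (congrArg endo e) x

theorem eq_self_of_sq_fix {g : Auto W} {x : W} {r : ℕ} (hr : Odd r) (hg : g ^ r = 1)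
    (h : endo g (endo g x) = x) : endo g x = x := by
  obtain ⟨k, rfl⟩ := hr
  have h1 : endo (g ^ (2 * k)) x = x := by
    rw [pow_mul, pow_two]
    exact endo_pow_fix h k
  have h2 := congrArg (fun a : Auto W => endo a x) hg
  simp only [pow_succ', endo_mul, endo_one] at h2
  change endo g (endo (g ^ (2 * k)) x) = x at h2
  rwa [h1] at h2

/-- An isometry of odd order splits an invariant subgroup orthogonally. -/
theorem split [Finite W] (h : Quad Q) {X : AddSubgroup W} {g : Auto W} {n : ℕ} (hn : Odd n)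
    (hg : g ^ n = 1) (hX : ∀ x ∈ X, endo g x ∈ X) (hiso : ∀ x, Q (endo g x) = Q x) :
    fixIn X g ≤ X ∧ dispIn X g ≤ X ∧ (∀ x ∈ X, ∃ c ∈ fixIn X g, ∃ d ∈ dispIn X g, c + d = x) ∧
      (∀ c ∈ fixIn X g, ∀ d ∈ dispIn X g, polar Q c d = 0) ∧
      Nat.card X = Nat.card (fixIn X g) * Nat.card (dispIn X g) := by
  classical
  have hpowX : ∀ (k : ℕ), ∀ x ∈ X, endo (g ^ k) x ∈ X := by
    intro k
    induction k with
    | zero => exact fun x hx => hx
    | succ k ih => exact fun x hx => by rw [pow_succ]; exact ih _ (hX x hx)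
  have hdX : dispIn X g ≤ X := by
    rintro _ ⟨y, hy, rfl⟩
    exact X.add_mem (hX y hy) hy
  have hfX : fixIn X g ≤ X := inf_le_left
  let N : W →+ W := ∑ i ∈ Finset.range n, endo (g ^ i)
  have hNapp : ∀ x, N x = ∑ i ∈ Finset.range n, endo (g ^ i) x := fun x =>
    AddMonoidHom.finsetSum_apply _ _ _
  have hNg : ∀ x, N (endo g x) = N x := fun x => by
    rw [hNapp, hNapp]
    have h1 := Finset.sum_range_succ' (fun i => endo (g ^ i) x) n
    rw [Finset.sum_range_succ, hg] at h1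
    refine add_right_cancel (b := x) ?_
    refine Eq.trans ?_ h1.symm
    rw [pow_zero]
    congr 1
  have hgN : ∀ x, endo g (N x) = N x := fun x => by
    rw [hNapp, map_sum, Finset.sum_congr rfl fun i _ =>
      (endo_commute_apply (Commute.pow_self g i).eq x).symm, ← hNapp, hNg, hNapp]
  have hnsmul : ∀ x : W, n • x = x := fun x => by
    obtain ⟨k, hk⟩ := hn
    rw [hk, add_nsmul, one_nsmul, two_mul, add_nsmul, h.twoW, zero_add]
  have hmemD : ∀ x ∈ X, ∀ i, endo (g ^ i) x + x ∈ dispIn X g := by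
    intro x hx i
    induction i with
    | zero => rw [pow_zero]; show x + x ∈ _; rw [h.twoW]; exact zero_mem _
    | succ i ih =>
      have e : endo (g ^ (i + 1)) x + x
          = (endo g (endo (g ^ i) x) + endo (g ^ i) x) + (endo (g ^ i) x + x) := by
        rw [pow_succ']
        show endo g (endo (g ^ i) x) + x = _
        rw [add_assoc, ← add_assoc (endo (g ^ i) x), h.twoW, zero_add]
      rw [e]
      exact add_mem (mem_dispIn.2 ⟨_, hpowX i x hx, rfl⟩) ih
  have hdec : ∀ x ∈ X, ∃ c ∈ fixIn X g, ∃ d ∈ dispIn X g, c + d = x := by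
    intro x hx
    refine ⟨N x, mem_fixIn.2 ⟨?_, hgN x⟩, N x + x, ?_, by rw [← add_assoc, h.twoW, zero_add]⟩
    · rw [hNapp]; exact sum_mem fun i _ => hpowX i x hx
    · have e : N x + x = ∑ i ∈ Finset.range n, (endo (g ^ i) x + x) := by
        rw [hNapp, Finset.sum_add_distrib, Finset.sum_const, Finset.card_range, hnsmul]
      rw [e]
      exact sum_mem fun i _ => hmemD x hx i
  have hdis : ∀ y ∈ fixIn X g, y ∈ dispIn X g → y = 0 := by
    intro y hy hy'
    obtain ⟨z, -, rfl⟩ := mem_dispIn.1 hy'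
    have h1 : N (endo g z + z) = 0 := by rw [map_add, hNg, h.twoW]
    rwa [hNapp, Finset.sum_congr rfl fun i _ => endo_pow_fix (mem_fixIn.1 hy).2 i, Finset.sum_const,
      Finset.card_range, hnsmul] at h1
  refine ⟨hfX, hdX, hdec, ?_, ?_⟩
  · intro c hc d hd
    obtain ⟨z, -, rfl⟩ := mem_dispIn.1 hd
    rw [h.polar_add]
    have e : polar Q c (endo g z) = polar Q c z := by
      conv_lhs => rw [← (mem_fixIn.1 hc).2]
      rw [polar, polar, ← map_add, hiso, hiso, hiso]
    rw [e, h.twoV]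
  · rw [← Nat.card_prod]
    refine (Nat.card_congr (Equiv.ofBijective
      (fun z : fixIn X g × dispIn X g => (⟨z.1 + z.2, add_mem (hfX z.1.2) (hdX z.2.2)⟩ : X)) ⟨?_, ?_⟩)).symm
    · intro z w hzw
      have e : (z.1 : W) + z.2 = w.1 + w.2 := congrArg Subtype.val hzw
      have e2 : (z.1 : W) - w.1 = w.2 - z.2 := sub_eq_sub_iff_add_eq_add.2 (by rw [e]; abel)
      have h0 := hdis _ (sub_mem z.1.2 w.1.2) (e2 ▸ sub_mem w.2.2 z.2.2)
      exact Prod.ext (Subtype.ext (sub_eq_zero.1 h0)) (Subtype.ext (sub_eq_zero.1 (e2 ▸ h0)).symm)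
    · intro x
      obtain ⟨c, hc, d, hd, e⟩ := hdec (x : W) x.2
      exact ⟨(⟨c, hc⟩, ⟨d, hd⟩), Subtype.ext e⟩

theorem fixIn_inv {X : AddSubgroup W} {g a : Auto W} (hX : ∀ x ∈ X, endo a x ∈ X)
    (hag : a * g = g * a ∨ a * g = g⁻¹ * a) : ∀ x ∈ fixIn X g, endo a x ∈ fixIn X g := by
  intro x hx
  obtain ⟨hxX, hxg⟩ := mem_fixIn.1 hx
  refine mem_fixIn.2 ⟨hX x hxX, ?_⟩
  rcases hag with e | e
  · rw [← endo_commute_apply e, hxg]
  · have e1 := DFunLike.congr_fun (congrArg endo e) x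
    change endo a (endo g x) = endo g⁻¹ (endo a x) at e1
    rw [hxg] at e1
    conv_lhs => rw [e1]
    exact endo_apply_inv g _

theorem dispIn_inv (h : Quad Q) {X : AddSubgroup W} {g a : Auto W} (hX : ∀ x ∈ X, endo a x ∈ X)
    (hgX : ∀ x ∈ X, endo g⁻¹ x ∈ X) (hag : a * g = g * a ∨ a * g = g⁻¹ * a) :
    ∀ x ∈ dispIn X g, endo a x ∈ dispIn X g := by
  rintro _ ⟨z, hz, rfl⟩
  show endo a (endo g z + z) ∈ _
  rw [map_add]
  rcases hag with e | e
  · rw [endo_commute_apply e]
    exact mem_dispIn.2 ⟨_, hX z hz, rfl⟩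
  · have e1 := DFunLike.congr_fun (congrArg endo e) z
    change endo a (endo g z) = endo g⁻¹ (endo a z) at e1
    rw [e1]
    refine mem_dispIn.2 ⟨_, hgX _ (hX z hz), ?_⟩
    rw [endo_apply_inv, add_comm]

theorem inv_mem_of_finite [Finite W] {X : AddSubgroup W} {g : Auto W} (hX : ∀ x ∈ X, endo g x ∈ X) :
    ∀ x ∈ X, endo g⁻¹ x ∈ X := by
  intro x hx
  obtain ⟨y, hy⟩ := (Finite.injective_iff_surjective (f := fun y : X => (⟨_, hX y y.2⟩ : X))).1
    (fun a b e => Subtype.ext (endo_injective g (congrArg Subtype.val e))) ⟨x, hx⟩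
  rw [← show endo g (y : W) = x from congrArg Subtype.val hy, endo_inv_apply]
  exact y.2

/-- An invariant plane of a fixed-point-free isometry of odd order is one orbit off zero. -/
theorem orbit_of_fpf [Finite W] {Y : AddSubgroup W} {g : Auto W} {r : ℕ} (hr : Odd r) (hg : g ^ r = 1)
    (hY : ∀ y ∈ Y, endo g y ∈ Y) (hfpf : ∀ y ∈ Y, endo g y = y → y = 0) {y : W} (hy : y ∈ Y)
    (hy0 : y ≠ 0) :
    4 ≤ Nat.card Y ∧ (Nat.card Y = 4 → endo g (endo g (endo g y)) = y ∧
      ∀ z ∈ Y, z ≠ 0 → z = y ∨ z = endo g y ∨ z = endo g (endo g y)) := by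
  classical
  set a := endo g y
  set b := endo g a
  have hab : a ∈ Y ∧ b ∈ Y := ⟨hY y hy, hY _ (hY y hy)⟩
  have ha0 : a ≠ 0 := fun e => hy0 (endo_injective g (e.trans (map_zero _).symm))
  have hb0 : b ≠ 0 := fun e => ha0 (endo_injective g (e.trans (map_zero _).symm))
  have h1 : a ≠ y := fun e => hy0 (hfpf y hy e)
  have h2 : b ≠ a := fun e => ha0 (hfpf a hab.1 e)
  have h3 : b ≠ y := fun e => h1 (eq_self_of_sq_fix hr hg e)
  let _ := Fintype.ofFinite Y
  let s : Finset Y := {0, ⟨y, hy⟩, ⟨a, hab.1⟩, ⟨b, hab.2⟩}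
  have hs : s.card = 4 := by
    simp only [s]
    rw [Finset.card_insert_of_notMem (by simp [Subtype.ext_iff, hy0.symm, ha0.symm, hb0.symm]),
      Finset.card_insert_of_notMem (by simp [Subtype.ext_iff, h1.symm, h3.symm]),
      Finset.card_insert_of_notMem (by simp [Subtype.ext_iff, h2.symm]), Finset.card_singleton]
  refine ⟨?_, fun h4 => ?_⟩
  · rw [Nat.card_eq_fintype_card, ← hs]; exact s.card_le_univ
  · have hu : s = Finset.univ := Finset.eq_univ_of_card _ (by rw [hs, ← Nat.card_eq_fintype_card, h4])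
    have key : ∀ z ∈ Y, z ≠ 0 → z = y ∨ z = a ∨ z = b := by
      intro z hz hz0
      have : (⟨z, hz⟩ : Y) ∈ s := hu ▸ Finset.mem_univ _
      simpa [s, Subtype.ext_iff, hz0] using this
    refine ⟨?_, key⟩
    have hgb0 : endo g b ≠ 0 := fun e => hb0 (endo_injective g (e.trans (map_zero _).symm))
    rcases key _ (hY b hab.2) hgb0 with e | e | e
    · exact e
    · exact absurd (endo_injective g e) h3
    · exact absurd (endo_injective g e) h2

end CfsgLib.InvolConj
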