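import Cfsg.Agent.Lib.InvolConj.Setting
import Cfsg.Agent.Lib.InvolConj.Systems
import Cfsg.Agent.Lib.Transfer.PGroupNormal
import Cfsg.Agent.Lib.StructC.BurnsideBasis

/-!
# The quadratic map of a critical subgroup of `O_2`
-/

set_option autoImplicit false

namespace CfsgLib.InvolConj

open Subgroup
open scoped commutatorElement

universe u

variable {G : Type u} [Group G]

/-- A normal 2-subgroup of `P` of class two, containing its centraliser in `P`. -/
structure Crit (P R : Subgroup G) : Prop where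
  normal : R.Normal
  le : R ≤ P
  comm : ⁅R, P⁆ ≤ R ⊓ centralizer (R : Set G)
  sq : ∀ x ∈ R, x * x ∈ centralizer (R : Set G)
  self : P ⊓ centralizer (R : Set G) ≤ R

theorem exists_crit [Finite G] (P : Subgroup G) [hP : P.Normal] (hp : IsPGroup 2 P) :
    ∃ R : Subgroup G, Crit P R := by
  have := Fact.mk Nat.prime_two
  obtain ⟨H, hHc, hΦ, hcomm, hself⟩ := CfsgLib.Transfer.exists_critical hp
  refine ⟨H.map P.subtype, CfsgLib.Solvable.map_subtype_normal H, map_subtype_le H, ?_, ?_, ?_⟩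
  · have e : (⊤ : Subgroup P).map P.subtype = P := by
      rw [← MonoidHom.range_eq_map, Subgroup.range_subtype]
    have h1 := Subgroup.map_mono (f := P.subtype) hcomm
    rw [map_commutator, e] at h1
    refine h1.trans ?_
    rintro _ ⟨x, hx, rfl⟩
    refine ⟨mem_map_of_mem _ hx.1, mem_centralizer_iff.2 ?_⟩
    rintro _ ⟨y, hy, rfl⟩
    exact congrArg Subtype.val (mem_centralizer_iff.1 hx.2 y hy)
  · rintro _ ⟨x, hx, rfl⟩
    refine mem_centralizer_iff.2 ?_
    rintro _ ⟨y, hy, rfl⟩
    have h1 := CfsgLib.StructC.pow_mem_frattini (hp.to_subgroup H) (⟨x, hx⟩ : H)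
    have h2 := mem_centralizer_iff.1 (hΦ (mem_map_of_mem H.subtype h1)) y hy
    rw [pow_two] at h2
    exact congrArg Subtype.val h2
  · rintro x ⟨hxP, hxc⟩
    refine ⟨⟨x, hxP⟩, hself (mem_centralizer_iff.2 fun y hy => Subtype.ext ?_), rfl⟩
    exact mem_centralizer_iff.1 hxc _ (mem_map_of_mem P.subtype hy)

/-- If conjugation by `g` fixes `x` up to a fixed element `d`, its powers move `x` by powers of `d`. -/
theorem conj_pow_of_fixed {g x d : G} (h : g * x * g⁻¹ = d * x) (hd : g * d = d * g) (i : ℕ) :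
    g ^ i * x * (g ^ i)⁻¹ = d ^ i * x := by
  induction i with
  | zero => simp
  | succ i ih =>
    calc g ^ (i + 1) * x * (g ^ (i + 1))⁻¹ = g * (g ^ i * x * (g ^ i)⁻¹) * g⁻¹ := by
          rw [pow_succ']; group
      _ = (g * d ^ i) * x * g⁻¹ := by rw [ih]; group
      _ = d ^ i * (g * x * g⁻¹) := by rw [(Commute.pow_right hd i).eq]; group
      _ = d ^ (i + 1) * x := by rw [h, pow_succ]; group

/-- A fixed displacement of an element of odd order that has order a power of two is trivial. -/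
theorem disp_eq_one {g x d : G} {n k : ℕ} (hg : g ^ n = 1) (hn : n.Coprime 2)
    (h : g * x * g⁻¹ = d * x) (hd : g * d = d * g) (hd2 : d ^ 2 ^ k = 1) : d = 1 := by
  have h1 : d ^ n = 1 := by
    have := conj_pow_of_fixed h hd n
    rw [hg, one_mul, inv_one, mul_one] at this
    exact mul_right_cancel (this.symm.trans (one_mul x).symm)
  exact orderOf_eq_one_iff.1 (Nat.eq_one_of_dvd_coprimes (hn.pow_right k)
    (orderOf_dvd_of_pow_eq_one h1) (orderOf_dvd_of_pow_eq_one hd2))

variable [Finite G]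

/-- The elements of the centre of `R` are fixed by odd order elements fixing the involutions. -/
theorem OneClass.fix_centre (h : OneClass G) {R : Subgroup G} (hR : Crit (Cfsg.pCore 2 G) R) {g : G}
    (hg : g ∈ centralizer (invols G : Set G)) (hodd : (orderOf g).Coprime 2) :
    ∀ z ∈ R ⊓ centralizer (R : Set G), g * z * g⁻¹ = z := by
  have hZn : (R ⊓ centralizer (R : Set G)).Normal := by
    have := hR.normal
    infer_instance
  have key : ∀ (k : ℕ), ∀ z ∈ R ⊓ centralizer (R : Set G), z ^ 2 ^ k = 1 → g * z * g⁻¹ = z := by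
    intro k
    induction k with
    | zero => intro z _ hz; rw [pow_zero, pow_one] at hz; rw [hz, mul_one, mul_inv_cancel]
    | succ k ih =>
      intro z hz hzk
      have hzz : z * z ∈ R ⊓ centralizer (R : Set G) := mul_mem hz hz
      have hsq := ih _ hzz (by rw [← pow_two, ← pow_mul, ← pow_succ', hzk])
      set d := g * z * g⁻¹ * z⁻¹ with hd
      have hgz : g * z * g⁻¹ ∈ R ⊓ centralizer (R : Set G) := hZn.conj_mem z hz g
      have hcom : Commute (g * z * g⁻¹) z⁻¹ :=
        (mem_centralizer_iff.1 hgz.2 z⁻¹ (inv_mem hz.1)).symm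
      have hd2 : d * d = 1 := by
        rw [hd, show g * z * g⁻¹ * z⁻¹ * (g * z * g⁻¹ * z⁻¹)
          = g * z * g⁻¹ * (z⁻¹ * (g * z * g⁻¹)) * z⁻¹ by group, ← hcom.eq,
          show g * z * g⁻¹ * (g * z * g⁻¹ * z⁻¹) * z⁻¹ = (g * (z * z) * g⁻¹) * (z * z)⁻¹ by group,
          hsq, mul_inv_cancel]
      have hfix : g * d = d * g := (mem_centralizer_iff.1 hg d (h.mem_invols hd2)).symm
      have h1 : d = 1 := disp_eq_one (n := orderOf g) (k := 1) (pow_orderOf_eq_one g) hodd
        (x := z) (by rw [hd]; group) hfix (by rw [pow_one, pow_two, hd2])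
      rwa [hd, mul_inv_eq_one] at h1
  intro z hz
  obtain ⟨k, hk⟩ := (CfsgLib.Solvable.pCore_isPGroup 2) ⟨z, hR.le hz.1⟩
  exact key k z hz (congrArg Subtype.val hk)

/-- An element of odd order trivial on the critical quotient is trivial. -/
theorem OneClass.eq_one_of_trivial (h : OneClass G) {R : Subgroup G} (hR : Crit (Cfsg.pCore 2 G) R)
    {g : G} (hg : g ∈ centralizer (invols G : Set G)) (hodd : (orderOf g).Coprime 2)
    (hW : ∀ x ∈ R, g * x * g⁻¹ * x⁻¹ ∈ centralizer (R : Set G)) : g = 1 := by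
  have := Fact.mk Nat.prime_two
  have := h.solvable
  have hP := CfsgLib.Solvable.pCore_isPGroup (G := G) 2
  have hPn := CfsgLib.Solvable.pCore_normal 2 G
  have hfix : ∀ d ∈ R, g * d * g⁻¹ = d → g * d = d * g := fun d _ hd => mul_inv_eq_iff_eq_mul.1 hd
  have hRfix : ∀ x ∈ R, g * x * g⁻¹ = x := fun x hx => by
    set d := g * x * g⁻¹ * x⁻¹ with hd
    have hdR : d ∈ R := mul_mem (hR.normal.conj_mem x hx g) (inv_mem hx)
    have hdfix := hfix d hdR (h.fix_centre hR hg hodd d ⟨hdR, hW x hx⟩)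
    obtain ⟨k, hk⟩ := hP ⟨d, hR.le hdR⟩
    have h1 : d = 1 := disp_eq_one (pow_orderOf_eq_one g) hodd (x := x) (by rw [hd]; group) hdfix
      (congrArg Subtype.val hk)
    rwa [hd, mul_inv_eq_one] at h1
  have hPfix : ∀ x ∈ Cfsg.pCore 2 G, g * x * g⁻¹ = x := fun x hx => by
    set d := g * x * g⁻¹ * x⁻¹ with hd
    have hdP : d ∈ Cfsg.pCore 2 G := mul_mem (hPn.conj_mem x hx g) (inv_mem hx)
    have hdc : d ∈ centralizer (R : Set G) := mem_centralizer_iff.2 fun c hc => by
      have hgc : ∀ c ∈ R, g * c = c * g := fun c hc => mul_inv_eq_iff_eq_mul.1 (hRfix c hc)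
      have e1 : x⁻¹ * c * x ∈ R := hR.normal.conj_mem' c hc x
      have h1 := hgc _ e1
      have h2 := hgc c hc
      calc c * d = c * g * x * g⁻¹ * x⁻¹ := by rw [hd]; group
        _ = g * x * (x⁻¹ * c * x) * g⁻¹ * x⁻¹ := by rw [← h2]; group
        _ = g * x * g⁻¹ * (g * (x⁻¹ * c * x)) * g⁻¹ * x⁻¹ := by group
        _ = d * c := by rw [h1, hd]; group
    have hdR : d ∈ R := hR.self ⟨hdP, hdc⟩
    obtain ⟨k, hk⟩ := hP ⟨d, hdP⟩
    have h1 : d = 1 := disp_eq_one (pow_orderOf_eq_one g) hodd (x := x) (by rw [hd]; group)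
      (hfix d hdR (hRfix d hdR)) (congrArg Subtype.val hk)
    rwa [hd, mul_inv_eq_one] at h1
  have hgP : g ∈ Cfsg.pCore 2 G := CfsgLib.Solvable.centralizer_pCore_le 2 h.core
    (mem_centralizer_iff.2 fun x hx => (mul_inv_eq_iff_eq_mul.1 (hPfix x hx)).symm)
  obtain ⟨k, hk⟩ := hP ⟨g, hgP⟩
  exact orderOf_eq_one_iff.1 (Nat.eq_one_of_dvd_coprimes (hodd.pow_right k) dvd_rfl
    (orderOf_dvd_of_pow_eq_one (congrArg Subtype.val hk)))

/-- The centre of the critical subgroup consists of involutions, once some element of odd order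
acts nontrivially. -/
theorem OneClass.centre_eq (h : OneClass G) {R : Subgroup G} (hR : Crit (Cfsg.pCore 2 G) R) {g : G}
    (hg : g ∈ centralizer (invols G : Set G)) (hodd : (orderOf g).Coprime 2) (hg1 : g ≠ 1) :
    R ⊓ centralizer (R : Set G) = invols G := by
  have := Fact.mk Nat.prime_two
  have := hR.normal
  have hVZ : invols G ≤ R ⊓ centralizer (R : Set G) := fun v hv => by
    have hc : v ∈ centralizer (R : Set G) :=
      centralizer_le (SetLike.coe_subset_coe.2 hR.le) hv.2.1
    exact ⟨hR.self ⟨hv.1, hc⟩, hc⟩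
  refine le_antisymm (fun z hz => h.mem_invols ?_) hVZ
  by_contra hz2
  set Z := R ⊓ centralizer (R : Set G) with hZ
  -- every involution is a square in `Z`
  have hsqV : ∀ v ∈ invols G, ∃ a ∈ Z, a * a = v := by
    obtain ⟨k, hk1, hk2⟩ := exists_involution (CfsgLib.Solvable.pCore_isPGroup 2)
      (hR.le (mul_mem hz hz).1) hz2
    intro v hv
    rcases eq_or_ne v 1 with rfl | hv1
    · exact ⟨1, one_mem Z, one_mul 1⟩
    obtain ⟨c, hc⟩ := h.conj _ v hk1 hk2 hv1 (sq_of_mem_invols hv)
    refine ⟨c * z ^ 2 ^ k * c⁻¹, (inferInstance : Z.Normal).conj_mem _ (pow_mem hz _) c, ?_⟩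
    rw [← hc, (Commute.refl z).mul_pow]
    group
  refine hg1 (h.eq_one_of_trivial hR hg hodd fun x hx => ?_)
  set d := x⁻¹ * (g * x * g⁻¹) with hd
  have hdR : d ∈ R := mul_mem (inv_mem hx) (hR.normal.conj_mem x hx g)
  have hxx : g * (x * x) * g⁻¹ = x * x := h.fix_centre hR hg hodd _ ⟨mul_mem hx hx, hR.sq x hx⟩
  set c := ⁅d, x⁆ with hc
  have hcZ : c ∈ Z := hR.comm (commutator_mem_commutator hdR (hR.le hx))
  have hcd : c * d = d * c := (mem_centralizer_iff.1 hcZ.2 d hdR).symm
  have hcx : c * x = x * c := (mem_centralizer_iff.1 hcZ.2 x hx).symm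
  have hc2 : c * c = 1 := by
    have h1 : d * d * x = x * (d * d) := (mem_centralizer_iff.1 (hR.sq d hdR) x hx).symm
    have h2 : d * x = c * x * d := by rw [hc, commutatorElement_def]; group
    have h3 : d * d * x = c * c * (x * (d * d)) := by
      calc d * d * x = d * (d * x) := by group
        _ = d * c * x * d := by rw [h2]; group
        _ = c * (d * x) * d := by rw [← hcd]; group
        _ = c * c * (x * (d * d)) := by rw [h2]; group
    rw [h1] at h3
    exact (mul_right_cancel (h3.symm.trans (one_mul (x * (d * d))).symm))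
  have hdd : c * (d * d) = 1 := by
    have h2 : d * x = c * x * d := by rw [hc, commutatorElement_def]; group
    have e1 : (x * d) * (x * d) = x * x := by
      rw [hd, mul_inv_cancel_left, show g * x * g⁻¹ * (g * x * g⁻¹) = g * (x * x) * g⁻¹ by group, hxx]
    have e2 : x * x * (c * (d * d)) = x * x := by
      calc x * x * (c * (d * d)) = x * (x * c) * (d * d) := by group
        _ = x * (c * x * d) * d := by rw [← hcx]; group
        _ = x * d * (x * d) := by rw [← h2]; group
        _ = x * x := e1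
    exact mul_left_cancel (e2.trans (mul_one _).symm)
  have hd2 : d * d = c := (eq_inv_of_mul_eq_one_right hdd).trans (inv_eq_of_mul_eq_one_right hc2)
  obtain ⟨a, haZ, haa⟩ := hsqV c (h.mem_invols hc2)
  have hda : d * a = a * d := mem_centralizer_iff.1 haZ.2 d hdR
  have hinv : (d * a⁻¹) * (d * a⁻¹) = 1 := by
    have h1 : a⁻¹ * d = d * a⁻¹ := ((show Commute d a from hda).inv_right).symm.eq
    calc d * a⁻¹ * (d * a⁻¹) = d * (a⁻¹ * d) * a⁻¹ := by group
      _ = (d * d) * (a * a)⁻¹ := by rw [h1]; group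
      _ = 1 := by rw [hd2, haa, mul_inv_cancel]
  have hdZ : d ∈ Z := by
    have := mul_mem (hVZ (h.mem_invols hinv)) haZ
    rwa [inv_mul_cancel_right] at this
  have e : g * x * g⁻¹ * x⁻¹ = x * d * x⁻¹ := by rw [hd]; group
  rw [e]
  exact ((inferInstance : Z.Normal).conj_mem d hdZ x).2

end CfsgLib.InvolConj
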