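import Cfsg.Agent.Lib.InvolConj.Setting

/-!
# The orbits on the centre of a Sylow 2-subgroup modulo `O_2`
-/

set_option autoImplicit false

namespace CfsgLib.InvolConj

open Subgroup
open scoped commutatorElement

universe u

variable {G : Type u} [Group G] [Finite G]

/-- The central elements of square one of a nontrivial image of a Sylow 2-subgroup are at least as
many as the involutions. -/
theorem OneClass.card_invols_le (h : OneClass G) (S : Sylow 2 G) (P : Subgroup G) [hP : P.Normal]
    (hPS : P ≤ S) (hne : ¬ (S : Subgroup G) ≤ P) :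
    Nat.card (invols G) ≤ Nat.card (omegaCenter ((S : Subgroup G).map (QuotientGroup.mk' P))) := by
  classical
  have := Fact.mk Nat.prime_two
  have := h.solvable
  set π := QuotientGroup.mk' P with hπ
  set S' := (S : Subgroup G).map π with hS'
  set E := omegaCenter S'
  set N := normalizer ((S : Subgroup G) : Set G) with hN
  have hNS : N.map π ≤ normalizer (E : Set (G ⧸ P)) :=
    (le_normalizer_map π).trans (le_normalizer_omegaCenter S')
  -- a nontrivial element of `E`
  have hS'ne : S' ≠ ⊥ := fun e => hne (by rwa [hS', Subgroup.map_eq_bot_iff, QuotientGroup.ker_mk'] at e)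
  obtain ⟨e, heS, he1, he2, hec⟩ := exists_fixed_involution (S.2.map π) (S.2.map π) le_normalizer hS'ne
  have heE : e ∈ E := ⟨heS, mem_centralizer_iff.2 fun y hy => mem_centralizer_singleton_iff.1 (hec hy), he2⟩
  -- its stabiliser fixes an involution
  set D := N ⊓ (centralizer ({e} : Set (G ⧸ P))).comap π with hD
  have hSD : (S : Subgroup G) ≤ D := le_inf le_normalizer fun s hs => hec (mem_map_of_mem π hs)
  have hSn : ((S : Subgroup G).subgroupOf D).Normal :=
    CfsgLib.Coprime.normal_subgroupOf_of_le_normalizer inf_le_left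
  obtain ⟨a, ha⟩ := IsPGroup.iff_card.1 S.2
  have hDcard : Nat.card D = (S : Subgroup G).relIndex D * Nat.card (S : Subgroup G) := by
    rw [← relIndex_bot_left, ← relIndex_bot_left, mul_comm]
    exact (relIndex_mul_relIndex ⊥ _ D bot_le hSD).symm
  have hcop : ((S : Subgroup G).relIndex D).Coprime (Nat.card (S : Subgroup G)) := by
    rw [ha]
    refine Nat.Coprime.pow_right a (Nat.coprime_comm.1 ?_)
    refine Nat.prime_two.coprime_iff_not_dvd.2 fun h2 => S.not_dvd_index (h2.trans ?_)
    exact (Dvd.intro _ (relIndex_mul_index hSD))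
  obtain ⟨D0', hD0'⟩ := CfsgLib.Solvable.exists_hall (G := D) hDcard hcop
  set D0 : Subgroup G := D0'.map D.subtype
  have hD0D : D0 ≤ D := map_subtype_le _
  have hD0card : Nat.card D0 = (S : Subgroup G).relIndex D := by
    rw [CfsgLib.Solvable.card_map_subtype, hD0']
  obtain ⟨s, ⟨hsS, hsc⟩, hse⟩ : e ∈ ((S : Subgroup G) ⊓ centralizer (D0 : Set G)).map π := by
    rw [CfsgLib.Coprime.map_inf_centralizer π (hD0D.trans inf_le_left) (by rw [hD0card]; exact hcop)
      (Or.inl inferInstance)]
    refine ⟨heS, mem_centralizer_iff.2 ?_⟩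
    rintro _ ⟨d, hd, rfl⟩
    exact mem_centralizer_singleton_iff.1 (hD0D hd).2
  have hs1 : s ≠ 1 := fun h1 => he1 (by rw [← hse, h1, map_one])
  obtain ⟨k, hk1, hk2⟩ := exists_involution S.2 hsS hs1
  set v := s ^ 2 ^ k
  have hvV : v ∈ invols G := h.mem_invols hk2
  have hvD : D ≤ centralizer ({v} : Set G) := by
    refine le_centralizer_of_coprime hD0D hSD (by rw [hD0card]; exact hcop)
      (by rw [hD0card, ← hDcard]) (fun d hd => mem_centralizer_singleton_iff.2 ?_) fun x hx => ?_
    · exact ((Commute.pow_right (show Commute d s from mem_centralizer_iff.1 hsc d hd) _)).eq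
    · exact mem_centralizer_singleton_iff.2
        (mem_centralizer_iff.1 (h.le_centralizer_invols S.2 hx) v hvV).symm
  -- the map from involutions to `E`
  have hex : ∀ w : invols G, ∃ n ∈ N, (w : G) ≠ 1 → n * v * n⁻¹ = w := fun w => by
    by_cases hw : (w : G) = 1
    · exact ⟨1, one_mem N, fun h => absurd hw h⟩
    · obtain ⟨n, hn, hnw⟩ := h.exists_conj_normalizer S hvV hk1 w.2 hw
      exact ⟨n, hn, fun _ => hnw⟩
  choose n hn hnw using hex
  let f : invols G → E := fun w => if hw : (w : G) = 1 then 1 else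
    ⟨π (n w) * e * (π (n w))⁻¹, (mem_normalizer_iff.1 (hNS (mem_map_of_mem π (hn w))) e).1 heE⟩
  refine Nat.card_le_card_of_injective f fun w w' hww => ?_
  have hne1 : ∀ g : G ⧸ P, g * e * g⁻¹ ≠ 1 := fun g h1 => he1 (by
    rw [mul_inv_eq_one] at h1
    exact mul_left_cancel (h1.trans (mul_one g).symm))
  by_cases h1 : (w : G) = 1 <;> by_cases h2 : (w' : G) = 1
  · exact Subtype.ext (h1.trans h2.symm)
  · have := congrArg Subtype.val hww
    simp only [f, dif_pos h1, dif_neg h2] at this
    exact absurd this.symm (hne1 _)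
  · have := congrArg Subtype.val hww
    simp only [f, dif_neg h1, dif_pos h2] at this
    exact absurd this (hne1 _)
  · have h3 := congrArg Subtype.val hww
    simp only [f, dif_neg h1, dif_neg h2] at h3
    have hmem : (n w)⁻¹ * n w' ∈ D := by
      refine ⟨N.mul_mem (N.inv_mem (hn w)) (hn w'), mem_centralizer_singleton_iff.2 ?_⟩
      rw [map_mul, map_inv]
      calc (π (n w))⁻¹ * π (n w') * e = (π (n w))⁻¹ * (π (n w') * e * (π (n w'))⁻¹) * π (n w') := by group
        _ = (π (n w))⁻¹ * (π (n w) * e * (π (n w))⁻¹) * π (n w') := by rw [h3]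
        _ = e * ((π (n w))⁻¹ * π (n w')) := by group
    have h4 : (n w)⁻¹ * n w' * v = v * ((n w)⁻¹ * n w') := mem_centralizer_singleton_iff.1 (hvD hmem)
    refine Subtype.ext ?_
    rw [← hnw w h1, ← hnw w' h2]
    calc n w * v * (n w)⁻¹ = n w * (v * ((n w)⁻¹ * n w')) * (n w')⁻¹ := by group
      _ = n w' * v * (n w')⁻¹ := by rw [← h4]; group

end CfsgLib.InvolConj
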