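import Cfsg.Agent.Lib.Solvable.HallHigman
import Cfsg.Agent.Lib.Solvable.Hall
import Cfsg.Agent.Lib.Coprime.Action
import Mathlib

/-!
# Solvable groups with one class of involutions: the centraliser of the involutions contains a
Sylow 2-subgroup
-/

set_option autoImplicit false

namespace CfsgLib.InvolConj

open Subgroup
open scoped commutatorElement

universe u

variable {G : Type u} [Group G]

/-- The elements of square one in the centre of `P`. -/
def omegaCenter (P : Subgroup G) : Subgroup G where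
  carrier := {x | x ∈ P ∧ x ∈ centralizer (P : Set G) ∧ x * x = 1}
  one_mem' := ⟨one_mem P, one_mem _, one_mul 1⟩
  mul_mem' := fun {a b} ha hb => ⟨mul_mem ha.1 hb.1, mul_mem ha.2.1 hb.2.1, by
    have h : b * a = a * b := mem_centralizer_iff.1 ha.2.1 b hb.1
    calc a * b * (a * b) = a * (b * a) * b := by group
      _ = (a * a) * (b * b) := by rw [h]; group
      _ = 1 := by rw [ha.2.2, hb.2.2, one_mul]⟩
  inv_mem' := fun {a} ha => ⟨inv_mem ha.1, inv_mem ha.2.1, by rw [← mul_inv_rev, ha.2.2, inv_one]⟩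

theorem mem_omegaCenter {P : Subgroup G} {x : G} :
    x ∈ omegaCenter P ↔ x ∈ P ∧ x ∈ centralizer (P : Set G) ∧ x * x = 1 := Iff.rfl

theorem omegaCenter_le (P : Subgroup G) : omegaCenter P ≤ P := fun _ hx => hx.1

theorem le_normalizer_omegaCenter (P : Subgroup G) :
    normalizer (P : Set G) ≤ normalizer (omegaCenter P : Set G) := by
  have key : ∀ g ∈ normalizer (P : Set G), ∀ x ∈ omegaCenter P, g * x * g⁻¹ ∈ omegaCenter P := by
    intro g hg x hx
    refine ⟨(mem_normalizer_iff.1 hg x).1 hx.1, mem_centralizer_iff.2 fun y hy => ?_, ?_⟩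
    · have h1 : g⁻¹ * y * g ∈ P := (mem_normalizer_iff''.1 hg y).1 hy
      have h2 : g⁻¹ * y * g * x = x * (g⁻¹ * y * g) := mem_centralizer_iff.1 hx.2.1 _ h1
      calc y * (g * x * g⁻¹) = g * (g⁻¹ * y * g * x) * g⁻¹ := by group
        _ = g * x * g⁻¹ * y := by rw [h2]; group
    · calc g * x * g⁻¹ * (g * x * g⁻¹) = g * (x * x) * g⁻¹ := by group
        _ = 1 := by rw [hx.2.2, mul_one, mul_inv_cancel]
  intro g hg
  refine mem_normalizer_iff.2 fun x => ⟨key g hg x, fun h => ?_⟩
  have h1 := key g⁻¹ (inv_mem hg) _ h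
  rwa [inv_inv, show g⁻¹ * (g * x * g⁻¹) * g = x by group] at h1

theorem omegaCenter_normal (P : Subgroup G) [hP : P.Normal] : (omegaCenter P).Normal := by
  rw [← Subgroup.normalizer_eq_top_iff]
  refine top_le_iff.1 (le_trans ?_ (le_normalizer_omegaCenter P))
  rw [Subgroup.normalizer_eq_top]

variable [Finite G]

/-- A nontrivial 2-subgroup contains an involution. -/
theorem exists_involution {H : Subgroup G} (hH : IsPGroup 2 H) {x : G} (hx : x ∈ H) (hx1 : x ≠ 1) :
    ∃ k : ℕ, x ^ 2 ^ k ≠ 1 ∧ x ^ 2 ^ k * x ^ 2 ^ k = 1 := by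
  obtain ⟨k, hk⟩ := hH ⟨x, hx⟩
  have hk' : x ^ 2 ^ k = 1 := congrArg Subtype.val hk
  induction k with
  | zero => rw [pow_zero, pow_one] at hk'; exact absurd hk' hx1
  | succ k ih =>
    by_cases h : x ^ 2 ^ k = 1
    · exact ih (Subtype.ext h) h
    · exact ⟨k, h, by rw [← pow_add, ← two_mul, ← pow_succ', hk']⟩

/-- A 2-subgroup normalising a nontrivial 2-subgroup fixes an involution in it. -/
theorem exists_fixed_involution {R U : Subgroup G} (hR : IsPGroup 2 R) (hU : IsPGroup 2 U)
    (hUR : R ≤ normalizer (U : Set G)) (hne : U ≠ ⊥) :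
    ∃ v ∈ U, v ≠ 1 ∧ v * v = 1 ∧ R ≤ centralizer ({v} : Set G) := by
  classical
  have := Fact.mk Nat.prime_two
  let _ : MulAction R U :=
    { smul := fun r u => ⟨r * u * (r : G)⁻¹, (mem_normalizer_iff.1 (hUR r.2) u).1 u.2⟩
      one_smul := fun u => Subtype.ext (by show (1 : G) * u * (1 : G)⁻¹ = u; simp)
      mul_smul := fun r s u => Subtype.ext (by
        show (r * s : G) * u * (r * s : G)⁻¹ = r * (s * u * (s : G)⁻¹) * (r : G)⁻¹
        group) }
  have hnt : Nontrivial U := (Subgroup.nontrivial_iff_ne_bot U).2 hne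
  obtain ⟨n, hn⟩ := IsPGroup.iff_card.1 hU
  have h2 : 2 ∣ Nat.card U := by
    rw [hn]
    refine dvd_pow_self 2 fun h0 => ?_
    rw [h0, pow_zero] at hn
    exact absurd hn (Finite.one_lt_card (α := U)).ne'
  obtain ⟨u, hu, hu1⟩ := hR.exists_fixed_point_of_prime_dvd_card_of_fixed_point U h2 (a := 1)
    (fun r => Subtype.ext (show (r : G) * 1 * (r : G)⁻¹ = 1 by group))
  obtain ⟨k, hk, hk2⟩ := exists_involution hU u.2 fun h => hu1 (Subtype.ext h.symm)
  refine ⟨_, pow_mem u.2 _, hk, hk2, fun r hr => mem_centralizer_singleton_iff.2 ?_⟩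
  have h := congrArg Subtype.val (hu ⟨r, hr⟩)
  change r * (u : G) * r⁻¹ = u at h
  exact ((Commute.pow_right (mul_inv_eq_iff_eq_mul.1 h : Commute r (u : G)) _)).eq

/-- Two subgroups of coprime order whose orders multiply to that of `M` and which centralise `t`
force `M` to centralise it. -/
theorem le_centralizer_of_coprime {M A B : Subgroup G} {t : G} (hA : A ≤ M) (hB : B ≤ M)
    (hcop : (Nat.card A).Coprime (Nat.card B)) (hcard : Nat.card A * Nat.card B = Nat.card M)
    (hAt : A ≤ centralizer ({t} : Set G)) (hBt : B ≤ centralizer ({t} : Set G)) :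
    M ≤ centralizer ({t} : Set G) := by
  rw [← inf_eq_left]
  refine eq_of_le_of_card_ge inf_le_left ?_
  rw [← hcard]
  exact Nat.le_of_dvd Nat.card_pos (hcop.mul_dvd_of_dvd_of_dvd (card_dvd_of_le (le_inf hA hAt))
    (card_dvd_of_le (le_inf hB hBt)))

/-- A solvable group with trivial odd core and all of at least two involutions conjugate. -/
structure OneClass (G : Type u) [Group G] : Prop where
  solvable : Group.IsSolvable G
  core : Cfsg.pPrimeCore 2 G = ⊥
  two : ∃ x y : G, x ≠ y ∧ x ≠ 1 ∧ x * x = 1 ∧ y ≠ 1 ∧ y * y = 1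
  conj : ∀ x y : G, x ≠ 1 → x * x = 1 → y ≠ 1 → y * y = 1 → ∃ g : G, g * x * g⁻¹ = y

/-- The subgroup of the involutions. -/
def invols (G : Type u) [Group G] : Subgroup G := omegaCenter (Cfsg.pCore 2 G)

theorem invols_normal : (invols G).Normal := by
  have := CfsgLib.Solvable.pCore_normal 2 G
  exact omegaCenter_normal _

theorem OneClass.mem_invols (h : OneClass G) {x : G} (hx : x * x = 1) : x ∈ invols G := by
  have := Fact.mk Nat.prime_two
  have := h.solvable
  have hn := CfsgLib.Solvable.pCore_normal 2 G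
  have hP := CfsgLib.Solvable.pCore_isPGroup (G := G) 2
  have hne : Cfsg.pCore 2 G ≠ ⊥ := fun e => by
    have hc := CfsgLib.Solvable.centralizer_pCore_le 2 h.core
    rw [e] at hc
    obtain ⟨a, b, hab, -⟩ := h.two
    refine hab ((mem_bot.1 (hc (mem_centralizer_iff.2 fun y hy => ?_))).trans
      (mem_bot.1 (hc (mem_centralizer_iff.2 fun y hy => ?_))).symm) <;>
      rw [mem_bot.1 hy, one_mul, mul_one]
  obtain ⟨v, hv, hv1, hv2, hvc⟩ := exists_fixed_involution hP hP
    (by rw [Subgroup.normalizer_eq_top]; exact le_top) hne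
  have hvV : v ∈ invols G := ⟨hv, mem_centralizer_iff.2 fun y hy =>
    mem_centralizer_singleton_iff.1 (hvc hy), hv2⟩
  rcases eq_or_ne x 1 with rfl | hx1
  · exact one_mem _
  · obtain ⟨g, rfl⟩ := h.conj v x hv1 hv2 hx1 hx
    exact invols_normal.conj_mem v hvV g

theorem sq_of_mem_invols {x : G} (hx : x ∈ invols G) : x * x = 1 := hx.2.2

theorem invols_isPGroup : IsPGroup 2 (invols G) :=
  (CfsgLib.Solvable.pCore_isPGroup 2).to_le (omegaCenter_le _)

theorem OneClass.le_centralizer_of_fixed (h : OneClass G) {M : Subgroup G} [M.Normal] {v : G}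
    (hv : v ∈ invols G) (hv1 : v ≠ 1) (hfix : M ≤ centralizer ({v} : Set G)) :
    M ≤ centralizer (invols G : Set G) := by
  intro m hm
  refine mem_centralizer_iff.2 fun w hw => ?_
  rcases eq_or_ne w 1 with rfl | hw1
  · rw [one_mul, mul_one]
  obtain ⟨g, rfl⟩ := h.conj v w hv1 (sq_of_mem_invols hv) hw1 (sq_of_mem_invols hw)
  have h1 : g⁻¹ * m * g * v = v * (g⁻¹ * m * g) :=
    mem_centralizer_singleton_iff.1 (hfix (Subgroup.Normal.conj_mem' inferInstance m hm g))
  calc g * v * g⁻¹ * m = g * (v * (g⁻¹ * m * g)) * g⁻¹ := by group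
    _ = m * (g * v * g⁻¹) := by rw [← h1]; group

/-- The 2-subgroups centralise all involutions. -/
theorem OneClass.le_centralizer_invols (h : OneClass G) {R0 : Subgroup G} (hR0 : IsPGroup 2 R0) :
    R0 ≤ centralizer (invols G : Set G) := by
  classical
  have := Fact.mk Nat.prime_two
  have := h.solvable
  have hVn : (invols G).Normal := invols_normal
  set K := centralizer (invols G : Set G) with hK
  have hKn : K.Normal := inferInstance
  have hVK : invols G ≤ K := fun x hx => mem_centralizer_iff.2 fun y hy =>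
    mem_centralizer_iff.1 hx.2.1 y hy.1
  obtain ⟨Q⟩ : Nonempty (Sylow 2 K) := inferInstance
  set SK : Subgroup G := (Q : Subgroup K).map K.subtype with hSK
  have hSKK : SK ≤ K := map_subtype_le _
  have hSKp : IsPGroup 2 SK := Q.2.map _
  have hVSK : invols G ≤ SK := by
    rw [← inf_eq_left.2 hVK, ← subgroupOf_map_subtype]
    exact Subgroup.map_mono (CfsgLib.Solvable.normal_pgroup_le_sylow
      (invols_isPGroup.comap_of_injective K.subtype K.subtype_injective) Q)
  have hfrat : normalizer (SK : Set G) ⊔ K = ⊤ := Sylow.normalizer_sup_eq_top Q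
  set π := QuotientGroup.mk' K
  have hker : π.ker = K := QuotientGroup.ker_mk' K
  have hsolQ : Group.IsSolvable (G ⧸ K) :=
    Group.isSolvable_of_surjective (QuotientGroup.mk'_surjective K)
  -- the top is trivial for 2
  have hO2 : Cfsg.pCore 2 (G ⧸ K) = ⊥ := by
    set M2 := (Cfsg.pCore 2 (G ⧸ K)).comap π with hM2
    have hM2n : M2.Normal := (CfsgLib.Solvable.pCore_normal 2 _).comap π
    obtain ⟨R⟩ : Nonempty (Sylow 2 G) := inferInstance
    have hVne : invols G ≠ ⊥ := by
      obtain ⟨a, -, -, ha1, ha, -⟩ := h.two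
      exact fun e => ha1 (mem_bot.1 (e ▸ h.mem_invols ha))
    obtain ⟨v, hv, hv1, -, hvc⟩ := exists_fixed_involution R.2 invols_isPGroup
      (by rw [Subgroup.normalizer_eq_top]; exact le_top) hVne
    have hM2R : M2 ≤ K ⊔ (R : Subgroup G) := by
      have h1 := CfsgLib.Solvable.pCore_le_sylow (p := 2)
        (R.mapSurjective (QuotientGroup.mk'_surjective K))
      rw [Sylow.coe_mapSurjective] at h1
      refine (comap_mono h1).trans ?_
      rw [comap_map_eq, hker, sup_comm]
    have hle : M2 ≤ K := h.le_centralizer_of_fixed hv hv1 (hM2R.trans (sup_le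
      (fun k hk => mem_centralizer_singleton_iff.2 (mem_centralizer_iff.1 hk v hv).symm) hvc))
    refine le_bot_iff.1 ?_
    rw [← map_comap_eq_self_of_surjective (QuotientGroup.mk'_surjective K) (Cfsg.pCore 2 (G ⧸ K))]
    exact (Subgroup.map_mono hle).trans
      ((Subgroup.map_eq_bot_iff _).2 hker.ge).le
  have hnt : Nontrivial (G ⧸ K) := by
    by_contra hsub
    rw [not_nontrivial_iff_subsingleton] at hsub
    obtain ⟨a, b, hab, ha1, ha, hb1, hb⟩ := h.two
    obtain ⟨g, rfl⟩ := h.conj a b ha1 ha hb1 hb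
    have hgK : g ∈ K := (QuotientGroup.eq_one_iff g).1 (Subsingleton.elim _ _)
    exact hab (by rw [← mem_centralizer_iff.1 hgK a (h.mem_invols ha), mul_inv_cancel_right])
  set J := (Cfsg.pPrimeCore 2 (G ⧸ K)).comap π with hJ
  have hJn : J.Normal := (CfsgLib.Solvable.pPrimeCore_normal 2 _).comap π
  have hJne : ¬ J ≤ K := fun hle => by
    refine CfsgLib.Solvable.fittingSubgroup_ne_bot (G := G ⧸ K) ?_
    rw [CfsgLib.Solvable.fittingSubgroup_eq_pCore 2 ?_, hO2]
    refine le_bot_iff.1 ?_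
    rw [← map_comap_eq_self_of_surjective (QuotientGroup.mk'_surjective K) (Cfsg.pPrimeCore 2 (G ⧸ K))]
    exact (Subgroup.map_mono hle).trans ((Subgroup.map_eq_bot_iff _).2 hker.ge).le
  set N := normalizer (SK : Set G) with hN
  set M := N ⊓ J with hM
  have hKJ : K ≤ J := by rw [hJ]; exact hker.ge.trans (comap_mono bot_le)
  have hSKN : SK ≤ N := le_normalizer
  have hSKM : SK ≤ M := le_inf hSKN (hSKK.trans hKJ)
  have hodd1 : (SK.relIndex (M ⊓ K)).Coprime 2 := by
    have h1 : SK.relIndex K = (Q : Subgroup K).index := by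
      rw [hSK, relIndex, subgroupOf, comap_map_eq_self_of_injective K.subtype_injective]
    refine Nat.Coprime.coprime_dvd_left ?_
      (Nat.coprime_comm.1 (Nat.prime_two.coprime_iff_not_dvd.2 Q.not_dvd_index))
    rw [← h1, ← relIndex_mul_relIndex SK (M ⊓ K) K (le_inf hSKM hSKK) inf_le_right]
    exact Dvd.intro _ rfl
  have hodd2 : (K.relIndex M).Coprime 2 := by
    rw [← hker, relIndex_ker]
    refine (CfsgLib.Solvable.pPrimeCore_coprime (G := G ⧸ K) 2).coprime_dvd_left (card_dvd_of_le ?_)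
    rintro _ ⟨x, hx, rfl⟩
    exact hx.2
  have hoddM : (SK.relIndex M).Coprime 2 := by
    rw [← relIndex_mul_relIndex SK (M ⊓ K) M (le_inf hSKM hSKK) inf_le_left, inf_comm M K,
      inf_relIndex_right]
    exact Nat.Coprime.mul_left (by rwa [inf_comm K M]) hodd2
  obtain ⟨a, ha⟩ := IsPGroup.iff_card.1 hSKp
  have hMcard : Nat.card M = SK.relIndex M * Nat.card SK := by
    rw [← relIndex_bot_left, ← relIndex_bot_left, mul_comm]
    exact (relIndex_mul_relIndex ⊥ SK M bot_le hSKM).symm
  have hcop : (SK.relIndex M).Coprime (Nat.card SK) := by rw [ha]; exact hoddM.pow_right a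
  have hMs : Group.IsSolvable M := inferInstance
  obtain ⟨H0, hH0⟩ := CfsgLib.Solvable.exists_hall (G := M) hMcard hcop
  set H : Subgroup G := H0.map M.subtype with hH
  have hHM : H ≤ M := map_subtype_le _
  have hHcard : Nat.card H = SK.relIndex M := by
    rw [hH, CfsgLib.Solvable.card_map_subtype, hH0]
  -- the normaliser of a complement has odd order
  set NH := N ⊓ normalizer (H : Set G) with hNH
  have hNHodd : (Nat.card NH).Coprime 2 := by
    refine Nat.coprime_comm.1 (Nat.prime_two.coprime_iff_not_dvd.2 fun h2 => ?_)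
    obtain ⟨t, ht⟩ := exists_prime_orderOf_dvd_card' 2 h2
    have ht2 : (t : G) * t = 1 := by
      have h1 := pow_orderOf_eq_one t
      rw [ht, pow_two] at h1
      exact congrArg Subtype.val h1
    have ht1 : (t : G) ≠ 1 := fun e => by
      rw [show t = 1 from Subtype.ext e, orderOf_one] at ht
      omega
    have htV := h.mem_invols ht2
    have htH : H ≤ centralizer ({(t : G)} : Set G) := by
      have h1 := CfsgLib.Coprime.mem_centralizer_of_mem_normalizer (A := H) (G := SK)
        ((hHM.trans inf_le_left).trans le_rfl)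
        (CfsgLib.Coprime.inf_eq_bot_of_coprime (by rw [hHcard]; exact hcop)) (hVSK htV) t.2.2
      exact fun x hx => mem_centralizer_singleton_iff.2 (mem_centralizer_iff.1 h1 x hx)
    have htSK : SK ≤ centralizer ({(t : G)} : Set G) := fun x hx =>
      mem_centralizer_singleton_iff.2 (mem_centralizer_iff.1 (hSKK hx) t htV).symm
    have htM := le_centralizer_of_coprime hHM hSKM (by rw [hHcard]; exact hcop)
      (by rw [hHcard, ← hMcard]) htH htSK
    refine hJne (h.le_centralizer_of_fixed htV ht1 fun j hj => ?_)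
    have h1 : j ∈ N ⊔ K := hfrat ▸ mem_top j
    obtain ⟨n, hn, k, hk, rfl⟩ := mem_sup_of_normal_right.1 h1
    exact mul_mem (htM ⟨hn, by simpa using mul_mem hj (inv_mem (hKJ hk))⟩)
      (mem_centralizer_singleton_iff.2 (mem_centralizer_iff.1 hk t htV).symm)
  have hMn : (M.subgroupOf N).Normal := ⟨fun x hx g => by
    rw [mem_subgroupOf] at hx ⊢
    exact ⟨(g * x * g⁻¹).2, hJn.conj_mem _ hx.2 g⟩⟩
  have hMNodd : (M.relIndex N).Coprime 2 := by
    refine hNHodd.coprime_dvd_left ?_
    have hsurj : Function.Surjective ((QuotientGroup.mk' (M.subgroupOf N)).comp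
        (Subgroup.inclusion (inf_le_left : NH ≤ N))) := by
      intro y
      obtain ⟨g, rfl⟩ := QuotientGroup.mk'_surjective _ y
      have hconj : (H.map (MulAut.conj (g : G)).toMonoidHom) ≤ M := by
        rintro _ ⟨x, hx, rfl⟩
        exact ⟨N.mul_mem (N.mul_mem g.2 (hHM hx).1) (N.inv_mem g.2), hJn.conj_mem _ (hHM hx).2 _⟩
      obtain ⟨m, hm⟩ := CfsgLib.Solvable.hall_conj (G := M) hMcard hcop hH0
        (K := (H.map (MulAut.conj (g : G)).toMonoidHom).subgroupOf M) (by
          rw [CfsgLib.Coprime.card_subgroupOf hconj, CfsgLib.Coprime.card_map_conj, hHcard])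
      have hm' : H.map (MulAut.conj (m : G)).toMonoidHom = H.map (MulAut.conj (g : G)).toMonoidHom := by
        have h1 := congrArg (Subgroup.map M.subtype) hm
        rw [subgroupOf_map_subtype, inf_eq_left.2 hconj] at h1
        rw [← h1, hH]
        exact (CfsgLib.Coprime.map_conj_map M.subtype m H0).symm
      have hn : (m : G)⁻¹ * g ∈ NH := by
        refine ⟨N.mul_mem (N.inv_mem m.2.1) g.2, mem_normalizer_iff.2 fun x => ?_⟩
        have h1 : ∀ y, y ∈ H ↔ (g : G)⁻¹ * (m * y * (m : G)⁻¹) * g ∈ H := fun y => by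
          have h3 := CfsgLib.Coprime.mem_map_conj (g := (g : G)) (A := H) (x := m * y * (m : G)⁻¹)
          rw [← hm', CfsgLib.Coprime.mem_map_conj,
            show (m : G)⁻¹ * (m * y * (m : G)⁻¹) * m = y by group] at h3
          exact h3
        rw [h1 ((m : G)⁻¹ * g * x * ((m : G)⁻¹ * g)⁻¹)]
        rw [show (g : G)⁻¹ * (m * ((m : G)⁻¹ * g * x * ((m : G)⁻¹ * g)⁻¹) * (m : G)⁻¹) * g = x by group]
      refine ⟨⟨_, hn⟩, (QuotientGroup.eq).2 ?_⟩
      rw [mem_subgroupOf]
      show ((m : G)⁻¹ * g)⁻¹ * g ∈ M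
      rw [show ((m : G)⁻¹ * g)⁻¹ * g = (g : G)⁻¹ * m * g by group]
      refine ⟨N.mul_mem (N.mul_mem (N.inv_mem g.2) m.2.1) g.2, hJn.conj_mem' _ m.2.2 _⟩
    exact card_dvd_of_surjective _ hsurj
  have hoddN : (SK.relIndex N).Coprime 2 := by
    rw [← relIndex_mul_relIndex SK M N hSKM inf_le_left]
    exact Nat.Coprime.mul_left hoddM hMNodd
  have hGK : (Nat.card (G ⧸ K)).Coprime 2 := by
    have h1 : N.map π = ⊤ := by
      have := congrArg (Subgroup.map π) hfrat
      rwa [Subgroup.map_sup, (Subgroup.map_eq_bot_iff K).2 hker.ge, sup_bot_eq,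
        Subgroup.map_top_of_surjective _ (QuotientGroup.mk'_surjective K)] at this
    rw [← Subgroup.card_top, ← h1, ← relIndex_ker, hker]
    exact hoddN.coprime_dvd_left (relIndex_dvd_of_le_left N hSKK)
  intro r hr
  obtain ⟨k, hk⟩ := hR0 ⟨r, hr⟩
  refine (QuotientGroup.eq_one_iff r).1 (orderOf_eq_one_iff.1 (Nat.eq_one_of_dvd_coprimes
    (hGK.pow_right k) (orderOf_dvd_natCard _) (orderOf_dvd_of_pow_eq_one ?_)))
  rw [← QuotientGroup.mk_pow, show r ^ 2 ^ k = 1 from congrArg Subtype.val hk]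
  rfl

/-- The normaliser of a Sylow 2-subgroup is transitive on the involutions. -/
theorem OneClass.exists_conj_normalizer (h : OneClass G) (S : Sylow 2 G) {x y : G}
    (hx : x ∈ invols G) (hx1 : x ≠ 1) (hy : y ∈ invols G) (hy1 : y ≠ 1) :
    ∃ n ∈ normalizer ((S : Subgroup G) : Set G), n * x * n⁻¹ = y := by
  have := Fact.mk Nat.prime_two
  have := invols_normal (G := G)
  set K := centralizer (invols G : Set G)
  have hSK : (S : Subgroup G) ≤ K := h.le_centralizer_invols S.2
  have hfrat := Sylow.normalizer_sup_eq_top (S.subtype hSK)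
  rw [show ((S.subtype hSK : Sylow 2 K) : Subgroup K).map K.subtype = (S : Subgroup G) by
    rw [Sylow.coe_subtype, subgroupOf_map_subtype, inf_eq_left.2 hSK]] at hfrat
  obtain ⟨g, rfl⟩ := h.conj x y hx1 (sq_of_mem_invols hx) hy1 (sq_of_mem_invols hy)
  obtain ⟨n, hn, k, hk, rfl⟩ := mem_sup_of_normal_right.1 (hfrat ▸ mem_top g)
  refine ⟨n, hn, ?_⟩
  have h1 : x * k = k * x := mem_centralizer_iff.1 hk x hx
  calc n * x * n⁻¹ = n * (x * k) * k⁻¹ * n⁻¹ := by group
    _ = n * k * x * (n * k)⁻¹ := by rw [h1]; group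

end CfsgLib.InvolConj
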